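import Mathlib
import Cfsg.Agent.H381.Cover_m3
import Cfsg.Agent.ClassicalGeometry.PSL2ElemOrder
import Cfsg.Agent.S0802
import Cfsg.Agent.H389.R.Pivot
import Cfsg.Agent.ClassicalGeometry.PSL2Solvable
import Cfsg.Agent.FastGrp
import Cfsg.Agent.Prune
set_option linter.all false

section
prune_inst 0x7f00000000000000000000000000000000000000000000000000000000000000000000000000000000000000000000000000000000000000000000000000000000000000000000000000000000000000003fffffffffffffffffffffffffffbeffbdffffffff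

section
prune_inst 0xf0b8fcefb8afffdfff7e7faefcdffc3994dfffffdff943ffe069ff8fdf03020bc5fb8f8de058ff1ef7e29410b87853fb7eeeffe86fdc7ffffd5ff45ffbee1fe5f7bd0851d69c340fbc2fff63f07f8e7f000000000000000000000000000000004200000000

-- part: H299/S3530/Abs
section
prune_inst 0xd46021040500020000180510100000042000000000400000d8600502000652428002000148000c10000280000000000000000000000000000a00000000000120802a520092080104240009803003180c00000000000000000000000000041000000000000
set_option linter.all false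
open scoped Cfsg.Agent.FastGrp

/-!
# The counting lemma, abstract form (S3530, helper299)

`L` a group of order `u (u - 1) (u + 1) / 2` with TI Sylow `s`-subgroups of order `u`, a TI subgroup `C` of order
`(u + 1) / 2`, and the centralizers of elements of order `s` being `s`-groups.
-/

set_option autoImplicit false
set_option linter.unusedSectionVars false
set_option linter.style.haveILetI false

namespace Cfsg.Agent.H299.PslCount

open Subgroup

universe u v

variable {L : Type u} [Group L] [Finite L] {s : ℕ} [Fact s.Prime] {q : ℕ}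

/-- an element of `s`-power order that normalises a Sylow subgroup lies in it -/
theorem mem_of_normalizer {P Q : Sylow s L} {g : L} (hg : g ∈ (P : Subgroup L))
    (h : g ∈ normalizer ((Q : Subgroup L) : Set L)) : g ∈ (Q : Subgroup L) := by
  have h1 : (P : Subgroup L) ⊓ normalizer ((Q : Subgroup L) : Set L) = (P : Subgroup L) ⊓ (Q : Subgroup L) :=
    P.2.inf_normalizer_sylow Q
  have h2 : g ∈ (P : Subgroup L) ⊓ normalizer ((Q : Subgroup L) : Set L) := ⟨hg, h⟩
  rw [h1] at h2
  exact h2.2

/-- the number of Sylow subgroups is `1` modulo the order -/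
theorem card_sylow_mod (hTI : ∀ P Q : Sylow s L, ∀ x : L, x ≠ 1 → x ∈ (P : Subgroup L) → x ∈ (Q : Subgroup L) → P = Q)
    (P : Sylow s L) : ∃ k, Nat.card (Sylow s L) = 1 + k * Nat.card (P : Subgroup L) := by
  classical
  haveI : Fintype (Sylow s L) := Fintype.ofFinite _
  -- `P` acts freely on the other Sylow subgroups
  let X := {Q : Sylow s L // Q ≠ P}
  have hP : ∀ g : L, g ∈ (P : Subgroup L) → g • P = P := fun g hg =>
    Sylow.smul_eq_iff_mem_normalizer.2 (le_normalizer hg)
  letI : MulAction (P : Subgroup L) X :=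
    { smul := fun g Q => ⟨(g : L) • Q.1, fun h => Q.2 (by
        have h1 : (g : L)⁻¹ • ((g : L) • Q.1) = (g : L)⁻¹ • P := by rw [h]
        rwa [inv_smul_smul, hP _ (inv_mem g.2)] at h1)⟩
      one_smul := fun Q => Subtype.ext (one_smul L Q.1)
      mul_smul := fun g h Q => Subtype.ext (mul_smul (g : L) (h : L) Q.1) }
  have hfree : ∀ Q : X, MulAction.stabilizer (P : Subgroup L) Q = ⊥ := by
    intro Q
    rw [eq_bot_iff]
    intro g hg
    rw [MulAction.mem_stabilizer_iff] at hg
    have h1 : (g : L) • Q.1 = Q.1 := congrArg Subtype.val hg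
    have h2 : (g : L) ∈ (Q.1 : Subgroup L) := mem_of_normalizer (P := P) g.2 (Sylow.smul_eq_iff_mem_normalizer.1 h1)
    rw [mem_bot]
    by_contra h3
    exact Q.2 (hTI Q.1 P g (fun h4 => h3 (Subtype.ext h4)) h2 g.2)
  have h1 : Nat.card X = Nat.card (MulAction.orbitRel.Quotient (P : Subgroup L) X) * Nat.card (P : Subgroup L) := by
    have e := MulAction.selfEquivSigmaOrbitsQuotientStabilizer (P : Subgroup L) X
    have e2 : (Σ ω : MulAction.orbitRel.Quotient (P : Subgroup L) X,
        (P : Subgroup L) ⧸ MulAction.stabilizer (P : Subgroup L) ω.out) ≃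
        (Σ _ : MulAction.orbitRel.Quotient (P : Subgroup L) X, (P : Subgroup L)) :=
      Equiv.sigmaCongrRight fun ω => by
        rw [hfree]
        exact QuotientGroup.quotientBot.toEquiv
    rw [Nat.card_congr (e.trans (e2.trans (Equiv.sigmaEquivProd _ _))), Nat.card_prod]
  refine ⟨Nat.card (MulAction.orbitRel.Quotient (P : Subgroup L) X), ?_⟩
  rw [← h1]
  have h2 : Fintype.card X = Fintype.card (Sylow s L) - 1 := by
    simp only [X]
    rw [Fintype.card_subtype_compl, Fintype.card_subtype_eq]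
  have h3 : 0 < Fintype.card (Sylow s L) := Fintype.card_pos
  rw [Nat.card_eq_fintype_card, Nat.card_eq_fintype_card (α := X)]
  omega

/-- at most two Sylow subgroups are normalised by an element outside all of them -/
theorem three_fixed (hTI : ∀ P Q : Sylow s L, ∀ x : L, x ≠ 1 → x ∈ (P : Subgroup L) → x ∈ (Q : Subgroup L) → P = Q)
    (hn : ∀ P : Sylow s L, Nat.card (Sylow s L) = 1 + Nat.card (P : Subgroup L))
    (hc : ∀ x y : L, x ≠ 1 → IsPGroup s (zpowers x) → y * x = x * y → IsPGroup s (zpowers y))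
    {g : L} (hg : g ≠ 1) {P Q R : Sylow s L} (hPQ : P ≠ Q) (hPR : P ≠ R) (hQR : Q ≠ R)
    (h1 : g ∈ normalizer ((P : Subgroup L) : Set L)) (h2 : g ∈ normalizer ((Q : Subgroup L) : Set L))
    (h3 : g ∈ normalizer ((R : Subgroup L) : Set L)) : False := by
  classical
  haveI : Fintype (Sylow s L) := Fintype.ofFinite _
  haveI : Fintype ↥(P : Subgroup L) := Fintype.ofFinite _
  have hfree : ∀ a : L, a ∈ (P : Subgroup L) → a • Q = Q → a = 1 := by
    intro a ha haQ
    by_contra ha1
    exact hPQ (hTI P Q a ha1 ha (mem_of_normalizer (P := P) ha (Sylow.smul_eq_iff_mem_normalizer.1 haQ)))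
  -- `P` is transitive on the other Sylow subgroups
  have htr : ∃ y ∈ (P : Subgroup L), y • Q = R := by
    by_contra hno
    push Not at hno
    let f : ↥(P : Subgroup L) → Sylow s L := fun y => (y : L) • Q
    have hf : Function.Injective f := by
      intro y z hyz
      have h4 : ((z⁻¹ * y : (P : Subgroup L)) : L) • Q = Q := by
        show ((z : L)⁻¹ * (y : L)) • Q = Q
        have h5 : (y : L) • Q = (z : L) • Q := hyz
        rw [mul_smul, h5, inv_smul_smul]
      have h6 := hfree _ (z⁻¹ * y).2 h4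
      have h7 : z⁻¹ * y = 1 := Subtype.ext h6
      exact (inv_mul_eq_one.1 h7).symm
    have h4 : (Finset.univ.image f) ⊆ (Finset.univ.erase P).erase R := by
      intro T hT
      rw [Finset.mem_image] at hT
      obtain ⟨y, -, rfl⟩ := hT
      rw [Finset.mem_erase, Finset.mem_erase]
      refine ⟨hno y y.2, ?_, Finset.mem_univ _⟩
      intro h5
      apply hPQ
      have h6 : (y : L)⁻¹ • ((y : L) • Q) = (y : L)⁻¹ • P := by rw [show (y : L) • Q = P from h5]
      rw [inv_smul_smul] at h6
      rw [h6]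
      exact (Sylow.smul_eq_iff_mem_normalizer.2 (le_normalizer (inv_mem y.2))).symm
    have h5 := Finset.card_le_card h4
    rw [Finset.card_image_of_injective _ hf, Finset.card_univ, Finset.card_erase_of_mem
      (Finset.mem_erase.2 ⟨fun h => hPR h.symm, Finset.mem_univ _⟩), Finset.card_erase_of_mem (Finset.mem_univ _),
      Finset.card_univ] at h5
    have h6 := hn P
    rw [Nat.card_eq_fintype_card, Nat.card_eq_fintype_card] at h6
    have h7 : 0 < Fintype.card (P : Subgroup L) := Fintype.card_pos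
    omega
  obtain ⟨y, hy, hyR⟩ := htr
  have hgP : g • P = P := Sylow.smul_eq_iff_mem_normalizer.2 h1
  have hgQ : g • Q = Q := Sylow.smul_eq_iff_mem_normalizer.2 h2
  have hgR : g • R = R := Sylow.smul_eq_iff_mem_normalizer.2 h3
  have hy' : g * y * g⁻¹ ∈ (P : Subgroup L) := (mem_normalizer_iff.1 h1 y).1 hy
  have h4 : (y⁻¹ * (g * y * g⁻¹)) • Q = Q := by
    have h5 : g⁻¹ • Q = Q := by
      nth_rewrite 1 [← hgQ]
      rw [inv_smul_smul]
    rw [mul_smul, mul_smul, mul_smul, h5, hyR, hgR, ← hyR, inv_smul_smul]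
  have h5 := hfree _ (mul_mem (inv_mem hy) hy') h4
  have h6 : g * y = y * g := by
    have h7 : g * y * g⁻¹ = y := (inv_mul_eq_one.1 h5).symm
    calc g * y = g * y * g⁻¹ * g := by group
      _ = y * g := by rw [h7]
  have hy1 : y ≠ 1 := by
    rintro rfl
    rw [one_smul] at hyR
    exact hQR hyR
  have h7 : IsPGroup s (zpowers g) := by
    refine hc y g hy1 ?_ h6
    exact P.2.to_le (zpowers_le.2 hy)
  obtain ⟨T, hT⟩ := h7.exists_le_sylow
  have hgT : g ∈ (T : Subgroup L) := hT (mem_zpowers g)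
  have h8 := hTI T P g hg hgT (mem_of_normalizer hgT h1)
  have h9 := hTI T Q g hg hgT (mem_of_normalizer hgT h2)
  exact hPQ (h8.symm.trans h9)

/-- exchanging the summations -/
theorem swap {I G M : Type*} [Fintype I] [Fintype G] [AddCommMonoid M] (R : I → G → Prop) [∀ i g, Decidable (R i g)]
    (φ : G → M) :
    ∑ g, (Finset.univ.filter fun i => R i g).card • φ g = ∑ i, ∑ g ∈ Finset.univ.filter (R i), φ g := by
  have h1 : ∀ g, (Finset.univ.filter fun i => R i g).card • φ g = ∑ i, if R i g then φ g else 0 := by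
    intro g
    rw [← Finset.sum_filter, Finset.sum_const]
  simp_rw [h1, Finset.sum_filter]
  exact Finset.sum_comm

theorem main [Fintype L] [Fintype (Sylow s L)] {k : ℕ} (hk : 2 ≤ k) (hq : q + 1 = 2 * k)
    (hcard : 2 * Nat.card L = q * (q - 1) * (q + 1))
    (hPq : ∀ P : Sylow s L, Nat.card (P : Subgroup L) = q)
    (hTI : ∀ P Q : Sylow s L, ∀ x : L, x ≠ 1 → x ∈ (P : Subgroup L) → x ∈ (Q : Subgroup L) → P = Q)
    (hn : Nat.card (Sylow s L) = q + 1)
    (hc : ∀ x y : L, x ≠ 1 → IsPGroup s (zpowers x) → y * x = x * y → IsPGroup s (zpowers y))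
    {C H : Subgroup L} (hC : Nat.card C = k) (hH : Nat.card H = q + 1)
    (hCTI : ∀ g, g ∉ H → ∀ x ∈ C, g⁻¹ * x * g ∈ C → x = 1)
    {A : Type v} [AddCommGroup A] (φ : L → A) [DecidablePred fun g : L => g ∈ C]
    [∀ P : Sylow s L, DecidablePred fun g : L => g ∈ (P : Subgroup L)]
    [∀ P : Sylow s L, DecidablePred fun g : L => g ∈ normalizer ((P : Subgroup L) : Set L)]
    (h0 : ∑ g, φ g = 0)
    (h1 : ∀ P : Sylow s L, ∑ g ∈ Finset.univ.filter (fun g => g ∈ normalizer ((P : Subgroup L) : Set L)), φ g = 0)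
    (h2 : ∀ P : Sylow s L, ∑ g ∈ Finset.univ.filter (fun g => g ∈ (P : Subgroup L)), φ g = 0)
    (h3 : ∀ c : L, ∑ g ∈ Finset.univ.filter (fun g => c⁻¹ * g * c ∈ C), φ g = 0) :
    (q * (q + 1) * (q + 1)) • φ 1 = 0 := by
  classical
  have hL : Nat.card L = (2 * k - 1) * (k - 1) * (2 * k) := by
    have e1 : q = 2 * k - 1 := by omega
    have e2 : q - 1 = 2 * (k - 1) := by omega
    rw [hq, e2, e1] at hcard
    have : 2 * Nat.card L = 2 * ((2 * k - 1) * (k - 1) * (2 * k)) := by rw [hcard]; ring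
    omega
  have hNP : ∀ P : Sylow s L, Nat.card (normalizer ((P : Subgroup L) : Set L)) = (2 * k - 1) * (k - 1) := by
    intro P
    have e1 : Nat.card (Sylow s L) = (normalizer ((P : Subgroup L) : Set L)).index := P.card_eq_index_normalizer
    have e2 := (normalizer ((P : Subgroup L) : Set L)).card_mul_index
    rw [← e1, hn, hq, hL] at e2
    exact Nat.eq_of_mul_eq_mul_right (by omega) e2
  -- the three counting functions
  set a : L → ℕ := fun g => (Finset.univ.filter fun P : Sylow s L => g ∈ normalizer ((P : Subgroup L) : Set L)).card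
    with ha
  set b : L → ℕ := fun g => (Finset.univ.filter fun P : Sylow s L => g ∈ (P : Subgroup L)).card with hb
  set d : L → ℕ := fun g => (Finset.univ.filter fun c : L => c⁻¹ * g * c ∈ C).card with hd
  have hcop : ∀ g : L, ∀ P : Sylow s L, g ∈ normalizer ((P : Subgroup L) : Set L) → ∀ c : L, c⁻¹ * g * c ∈ C →
      g = 1 := by
    intro g P hg c hgc
    have e1 : orderOf g ∣ (2 * k - 1) * (k - 1) := by
      rw [← hNP P]
      exact Subgroup.orderOf_dvd_natCard _ hg
    have e2 : orderOf g ∣ k := by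
      rw [← hC]
      have e3 : orderOf (c⁻¹ * g * c) = orderOf g := by
        have := orderOf_injective (MulAut.conj c⁻¹).toMonoidHom (MulAut.conj c⁻¹).injective g
        simpa only [_root_.map_inv, _root_.MulEquiv.toMonoidHom_eq_coe, _root_.MonoidHom.coe_coe, _root_.MulAut.inv_apply, _root_.MulAut.conj_symm_apply] using this
      rw [← e3]
      exact Subgroup.orderOf_dvd_natCard _ hgc
    have e4 : Nat.Coprime k ((2 * k - 1) * (k - 1)) := by
      obtain ⟨j, rfl⟩ := Nat.exists_eq_add_of_le hk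
      apply Nat.Coprime.mul_right
      · have : 2 * (2 + j) - 1 = (2 + j) * 1 + (1 + j) := by omega
        rw [this, Nat.coprime_mul_left_add_right]
        have : 2 + j = (1 + j) + 1 := by omega
        rw [this, Nat.coprime_self_add_left]
        exact Nat.coprime_one_left _
      · have : 2 + j = (2 + j - 1) + 1 := by omega
        nth_rewrite 1 [this]
        rw [Nat.coprime_self_add_left]
        exact Nat.coprime_one_left _
    have e5 := Nat.dvd_gcd e2 e1
    rw [Nat.Coprime] at e4
    rw [e4, Nat.dvd_one] at e5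
    exact orderOf_eq_one_iff.1 e5
  have hle : ∀ g : L, g ≠ 1 → (q + 1) * a g + (q + 1) * b g + 2 * d g ≤ 2 * (q + 1) := by
    intro g hg
    by_cases hP : ∃ P : Sylow s L, g ∈ (P : Subgroup L)
    · obtain ⟨P, hP⟩ := hP
      have e1 : b g ≤ 1 := by
        rw [hb]
        show (Finset.univ.filter fun P : Sylow s L => g ∈ (P : Subgroup L)).card ≤ 1
        rw [Finset.card_le_one]
        intro Q hQ R hR
        rw [Finset.mem_filter] at hQ hR
        exact hTI Q R g hg hQ.2 hR.2
      have e2 : a g ≤ 1 := by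
        rw [ha]
        show (Finset.univ.filter fun P : Sylow s L => g ∈ normalizer ((P : Subgroup L) : Set L)).card ≤ 1
        rw [Finset.card_le_one]
        intro Q hQ R hR
        rw [Finset.mem_filter] at hQ hR
        exact hTI Q R g hg (mem_of_normalizer hP hQ.2) (mem_of_normalizer hP hR.2)
      have e3 : d g = 0 := by
        rw [hd]
        show (Finset.univ.filter fun c : L => c⁻¹ * g * c ∈ C).card = 0
        rw [Finset.card_eq_zero, Finset.filter_eq_empty_iff]
        intro c _ hcc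
        exact hg (hcop g P (le_normalizer hP) c hcc)
      nlinarith only [e1, e2, e3]
    · have e1 : b g = 0 := by
        rw [hb]
        show (Finset.univ.filter fun P : Sylow s L => g ∈ (P : Subgroup L)).card = 0
        rw [Finset.card_eq_zero, Finset.filter_eq_empty_iff]
        intro P _ hPg
        exact hP ⟨P, hPg⟩
      by_cases hT : ∃ c : L, c⁻¹ * g * c ∈ C
      · obtain ⟨c, hcg⟩ := hT
        have e2 : a g = 0 := by
          rw [ha]
          show (Finset.univ.filter fun P : Sylow s L => g ∈ normalizer ((P : Subgroup L) : Set L)).card = 0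
          rw [Finset.card_eq_zero, Finset.filter_eq_empty_iff]
          intro P _ hPg
          exact hg (hcop g P hPg c hcg)
        have e3 : d g ≤ q + 1 := by
          rw [hd]
          show (Finset.univ.filter fun c : L => c⁻¹ * g * c ∈ C).card ≤ q + 1
          rw [← hH, Nat.card_eq_fintype_card]
          rw [← Finset.card_univ]
          have e4 : (Finset.univ.filter fun c : L => c⁻¹ * g * c ∈ C) ⊆
              Finset.univ.image (fun h : H => c * (h : L)) := by
            intro c' hc'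
            rw [Finset.mem_filter] at hc'
            rw [Finset.mem_image]
            refine ⟨⟨c⁻¹ * c', ?_⟩, Finset.mem_univ _, by simp⟩
            by_contra hno
            have e5 := hCTI _ hno _ hcg (by
              have : (c⁻¹ * c')⁻¹ * (c⁻¹ * g * c) * (c⁻¹ * c') = c'⁻¹ * g * c' := by group
              rw [this]
              exact hc'.2)
            apply hg
            have e6 : g = c * (c⁻¹ * g * c) * c⁻¹ := by group
            rw [e6, e5]
            group
          exact (Finset.card_le_card e4).trans Finset.card_image_le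
        rw [e1, e2]
        omega
      · have e2 : d g = 0 := by
          rw [hd]
          show (Finset.univ.filter fun c : L => c⁻¹ * g * c ∈ C).card = 0
          rw [Finset.card_eq_zero, Finset.filter_eq_empty_iff]
          intro c _ hcc
          exact hT ⟨c, hcc⟩
        have e3 : a g ≤ 2 := by
          rw [ha]
          show (Finset.univ.filter fun P : Sylow s L => g ∈ normalizer ((P : Subgroup L) : Set L)).card ≤ 2
          by_contra hno
          push Not at hno
          obtain ⟨P, Q, R, hP1, hQ1, hR1, hPQ, hPR, hQR⟩ := Finset.two_lt_card_iff.1 hno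
          rw [Finset.mem_filter] at hP1 hQ1 hR1
          exact three_fixed hTI (fun P => by rw [hn, hPq, add_comm]) hc hg hPQ hPR hQR hP1.2 hQ1.2 hR1.2
        rw [e1, e2]
        nlinarith only [e3]
  have hcC : ∀ c : L, (Finset.univ.filter fun g : L => c⁻¹ * g * c ∈ C).card = k := by
    intro c
    rw [← hC, Nat.card_eq_fintype_card, ← Finset.card_univ]
    refine Finset.card_bij' (fun g hg => (⟨c⁻¹ * g * c, (Finset.mem_filter.1 hg).2⟩ : C))
      (fun x _ => c * (x : L) * c⁻¹) ?_ ?_ ?_ ?_
    · intro g hg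
      exact Finset.mem_univ _
    · intro x _
      rw [Finset.mem_filter]
      refine ⟨Finset.mem_univ _, ?_⟩
      have : c⁻¹ * (c * (x : L) * c⁻¹) * c = x := by group
      rw [this]
      exact x.2
    · intro g hg
      show c * (c⁻¹ * g * c) * c⁻¹ = g
      group
    · intro x _
      apply Subtype.ext
      show c⁻¹ * (c * (x : L) * c⁻¹) * c = x
      group
  have hcS : ∀ K : Subgroup L, ∀ [DecidablePred fun g : L => g ∈ K],
      (Finset.univ.filter fun g : L => g ∈ K).card = Nat.card K := by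
    intro K _
    rw [Nat.card_eq_fintype_card]
    exact (Fintype.card_subtype _).symm
  have hone : a 1 = q + 1 ∧ b 1 = q + 1 ∧ d 1 = Nat.card L := by
    refine ⟨?_, ?_, ?_⟩
    · rw [ha]
      show (Finset.univ.filter fun P : Sylow s L => (1 : L) ∈ normalizer ((P : Subgroup L) : Set L)).card = q + 1
      rw [Finset.filter_true_of_mem (fun P _ => one_mem _), Finset.card_univ, ← Nat.card_eq_fintype_card, hn]
    · rw [hb]
      show (Finset.univ.filter fun P : Sylow s L => (1 : L) ∈ (P : Subgroup L)).card = q + 1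
      rw [Finset.filter_true_of_mem (fun P _ => one_mem _), Finset.card_univ, ← Nat.card_eq_fintype_card, hn]
    · rw [hd]
      show (Finset.univ.filter fun c : L => c⁻¹ * 1 * c ∈ C).card = Nat.card L
      rw [Finset.filter_true_of_mem (fun c _ => by
        have : c⁻¹ * 1 * c = 1 := by group
        rw [this]; exact one_mem _), Finset.card_univ, Nat.card_eq_fintype_card]
  -- the total count
  have hsum : ∑ g, ((q + 1) * a g + (q + 1) * b g + 2 * d g) =
      (q + 1) * (2 * k * ((2 * k - 1) * (k - 1))) + (q + 1) * (2 * k * q) + 2 * (Nat.card L * k) := by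
    rw [Finset.sum_add_distrib, Finset.sum_add_distrib, ← Finset.mul_sum, ← Finset.mul_sum, ← Finset.mul_sum]
    have s1 := swap (fun (P : Sylow s L) (g : L) => g ∈ normalizer ((P : Subgroup L) : Set L)) (fun _ => (1 : ℕ))
    have s2 := swap (fun (P : Sylow s L) (g : L) => g ∈ (P : Subgroup L)) (fun _ => (1 : ℕ))
    have s3 := swap (fun (c : L) (g : L) => c⁻¹ * g * c ∈ C) (fun _ => (1 : ℕ))
    simp only [smul_eq_mul, mul_one, Finset.sum_const] at s1 s2 s3
    have t1 : ∑ g, a g = 2 * k * ((2 * k - 1) * (k - 1)) := by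
      rw [ha]
      refine s1.trans ?_
      rw [Finset.sum_congr rfl (fun P _ => (hcS _).trans (hNP P)), Finset.sum_const, Finset.card_univ,
        ← Nat.card_eq_fintype_card, hn, hq, smul_eq_mul]
    have t2 : ∑ g, b g = 2 * k * q := by
      rw [hb]
      refine s2.trans ?_
      rw [Finset.sum_congr rfl (fun P _ => (hcS _).trans (hPq P)), Finset.sum_const, Finset.card_univ,
        ← Nat.card_eq_fintype_card, hn, hq, smul_eq_mul]
    have t3 : ∑ g, d g = Nat.card L * k := by
      rw [hd]
      refine s3.trans ?_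
      rw [Finset.sum_congr rfl (fun c _ => hcC c), Finset.sum_const, Finset.card_univ,
        ← Nat.card_eq_fintype_card, smul_eq_mul]
    rw [t1, t2, t3]
  set F : L → ℕ := fun g => (q + 1) * a g + (q + 1) * b g + 2 * d g with hF
  have hF1 : F 1 = 2 * (q + 1) + q * (q + 1) * (q + 1) := by
    show (q + 1) * a 1 + (q + 1) * b 1 + 2 * d 1 = _
    rw [hone.1, hone.2.1, hone.2.2, hcard]
    obtain ⟨r, rfl⟩ : ∃ r, q = r + 1 := ⟨q - 1, by omega⟩
    rw [Nat.add_sub_cancel]
    ring
  have hpt : ∀ g ∈ Finset.univ.erase (1 : L), F g = 2 * (q + 1) := by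
    rw [← Finset.sum_eq_sum_iff_of_le (fun g hg => hle g (Finset.ne_of_mem_erase hg))]
    change (∑ g ∈ Finset.univ.erase (1 : L), F g) = ∑ g ∈ Finset.univ.erase (1 : L), 2 * (q + 1)
    have e1 : ∑ g ∈ Finset.univ.erase (1 : L), F g + F 1 = ∑ g, F g := Finset.sum_erase_add _ _ (Finset.mem_univ _)
    rw [Finset.sum_const, Finset.card_erase_of_mem (Finset.mem_univ _), Finset.card_univ, ← Nat.card_eq_fintype_card,
      smul_eq_mul]
    rw [hsum, hF1] at e1
    have e2 : 0 < Nat.card L := Nat.card_pos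
    obtain ⟨N, hN⟩ : ∃ N, Nat.card L = N + 1 := ⟨Nat.card L - 1, by omega⟩
    rw [hN, Nat.add_sub_cancel]
    rw [hN] at e1 hL
    obtain ⟨j, rfl⟩ := Nat.exists_eq_add_of_le hk
    have e3 : q = 2 * j + 3 := by (clear * - hq; omega)
    have e4 : 2 * (2 + j) - 1 = 2 * j + 3 := by omega
    have e5 : 2 + j - 1 = j + 1 := by omega
    rw [e4, e5] at hL e1
    rw [e3] at e1 ⊢
    have e6 : N = (2 * j + 3) * (j + 1) * (2 * (2 + j)) - 1 := by omega
    zify at e1 hL ⊢
    have e7 : (N : ℤ) = (2 * j + 3) * (j + 1) * (2 * (2 + j)) - 1 := by linarith only [hL]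
    rw [e7] at e1 ⊢
    linear_combination e1
  have htot : ∑ g, F g • φ g = 0 := by
    have s1 := swap (fun (P : Sylow s L) (g : L) => g ∈ normalizer ((P : Subgroup L) : Set L)) φ
    have s2 := swap (fun (P : Sylow s L) (g : L) => g ∈ (P : Subgroup L)) φ
    have s3 := swap (fun (c : L) (g : L) => c⁻¹ * g * c ∈ C) φ
    have t1 : ∑ g, a g • φ g = 0 := by
      rw [ha]
      exact s1.trans (Finset.sum_eq_zero fun P _ => h1 P)
    have t2 : ∑ g, b g • φ g = 0 := by
      rw [hb]
      exact s2.trans (Finset.sum_eq_zero fun P _ => h2 P)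
    have t3 : ∑ g, d g • φ g = 0 := by
      rw [hd]
      exact s3.trans (Finset.sum_eq_zero fun c _ => h3 c)
    have e1 : ∀ g, F g • φ g = (q + 1) • (a g • φ g) + (q + 1) • (b g • φ g) + 2 • (d g • φ g) := by
      intro g
      show ((q + 1) * a g + (q + 1) * b g + 2 * d g) • φ g = _
      rw [add_smul, add_smul, mul_smul, mul_smul, mul_smul]
    rw [Finset.sum_congr rfl (fun g _ => e1 g), Finset.sum_add_distrib, Finset.sum_add_distrib, ← Finset.smul_sum,
      ← Finset.smul_sum, ← Finset.smul_sum, t1, t2, t3, smul_zero, smul_zero, add_zero, add_zero]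
  have e1 : ∑ g ∈ Finset.univ.erase (1 : L), F g • φ g + F 1 • φ 1 = 0 := by
    rw [← htot]
    exact Finset.sum_erase_add _ _ (Finset.mem_univ _)
  have e2 : ∑ g ∈ Finset.univ.erase (1 : L), F g • φ g = (2 * (q + 1)) • ∑ g ∈ Finset.univ.erase (1 : L), φ g := by
    rw [Finset.smul_sum]
    exact Finset.sum_congr rfl fun g hg => by rw [hpt g hg]
  have e3 : ∑ g ∈ Finset.univ.erase (1 : L), φ g + φ 1 = 0 := by
    rw [← h0]
    exact Finset.sum_erase_add _ _ (Finset.mem_univ _)
  rw [e2, hF1, add_smul, ← add_assoc, ← smul_add, e3, smul_zero, zero_add] at e1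
  exact e1

end Cfsg.Agent.H299.PslCount
end

-- part: H347/S3530/PslBasics
section
prune_inst 0x20000000000000000000000000001c2282000000000080000000000007800c0000000020b0100000000000044030004811000030020000000a000000011800800000000000000000000000000000000000000000000000000000000000000000000000000
set_option linter.all false
open scoped Cfsg.Agent.FastGrp

/-!
# S3530: basic facts on `PSL(2, u)` (helper347)
-/

set_option autoImplicit false

namespace Cfsg.Agent.H389.RSq

open Subgroup
open Cfsg.Agent.H389.JSq (Has)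

universe u v

namespace PB

open Cfsg.Agent.ClassicalGeometry.PSLTorus Cfsg.Agent.ClassicalGeometry.PSL2Basic
open scoped MatrixGroups

theorem a4_mul : ∀ x y : alternatingGroup (Fin 4), x * x = 1 → y * y = 1 → (x * y) * (x * y) = 1 := by decide +kernel

/-- an element of order 3 -/
def c4 : alternatingGroup (Fin 4) := ⟨c[0, 1, 2], by rw [Equiv.Perm.mem_alternatingGroup]; decide⟩

theorem c4_ord : orderOf c4 = 3 := by
  apply orderOf_eq_prime
  · decide +kernel
  · decide +kernel

theorem c4_fix : ∀ x : alternatingGroup (Fin 4), x * x = 1 → x * c4 = c4 * x → x = 1 := by decide +kernel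

theorem a4_ne : ∃ x : alternatingGroup (Fin 4), x * x = 1 ∧ x ≠ 1 := by decide +kernel

/-! ### Generalities -/

theorem charP_of_card {F : Type*} [Field F] [Fintype F] {s f : ℕ} (hs : s.Prime) (hF : Fintype.card F = s ^ f) :
    CharP F s := by
  obtain ⟨p, hp⟩ := CharP.exists F
  obtain ⟨n, hp', hn⟩ := FiniteField.card F p
  have h1 : p ∣ s ^ f := by
    rw [← hF, hn]
    exact dvd_pow_self p n.2.ne'
  have h2 : p = s := (Nat.prime_dvd_prime_iff_eq hp' hs).mp (hp'.dvd_of_dvd_pow h1)
  rwa [← h2]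

theorem odd_card {F : Type*} [Field F] [Fintype F] {s f : ℕ} (hs : s.Prime) (hF : Fintype.card F = s ^ f)
    (h2 : s ≠ 2) : Odd (Fintype.card F) := by
  rw [hF]
  exact (hs.odd_of_ne_two h2).pow

theorem even_card {F : Type*} [Field F] [Fintype F] {f : ℕ} (hF : Fintype.card F = 2 ^ f) :
    Even (Fintype.card F) := by
  have h1 : 1 < Fintype.card F := Fintype.one_lt_card
  rw [hF] at h1 ⊢
  have hf : f ≠ 0 := by
    rintro rfl
    simp at h1
  exact (Nat.even_pow.mpr ⟨even_two, hf⟩)

theorem sq_sub_one {u : ℕ} (hu : 1 ≤ u) : u ^ 2 - 1 = (u - 1) * (u + 1) := by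
  obtain ⟨k, rfl⟩ : ∃ k, u = k + 1 := ⟨u - 1, by omega⟩
  have : (k + 1) ^ 2 - 1 = k * (k + 2) := by
    apply Nat.sub_eq_of_eq_add
    ring
  rw [this]
  simp

theorem has_congr {X Y : Type*} [Group X] [Group Y] (e : X ≃* Y) {n : ℕ} (h : Has Y n) : Has X n := by
  obtain ⟨g, hg⟩ := h
  exact ⟨e.symm g, by rw [← hg]; exact orderOf_injective e.symm.toMonoidHom e.symm.injective g⟩

/-- the order of the image of an element of odd order -/
theorem orderOf_pr_odd {F : Type*} [Field F] (a : SL(2, F)) (ha : Odd (orderOf a)) :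
    orderOf (pr F a) = orderOf a := by
  apply Nat.dvd_antisymm (orderOf_map_dvd (pr F) a)
  set n := orderOf (pr F a) with hn
  have h1 : pr F (a ^ n) = 1 := by rw [map_pow, hn, pow_orderOf_eq_one]
  have h2 : (a ^ n) ^ 2 = 1 := by
    rcases (pr_eq_one_iff _).mp h1 with h | h
    · rw [h, one_pow]
    · rw [h]
      simp only [_root_.even_two, _root_.Even.neg_pow, _root_.one_pow]
  rw [← pow_mul] at h2
  have h3 := orderOf_dvd_of_pow_eq_one h2
  exact (Nat.Coprime.dvd_of_dvd_mul_right (Nat.Coprime.symm (Nat.coprime_two_left.mpr ha)) h3)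

/-- diagonal elements -/
def dg {F : Type*} [Field F] (a : Fˣ) : SL(2, F) :=
  ⟨!![(a : F), 0; 0, ((a⁻¹ : Fˣ) : F)], by simp [Matrix.det_fin_two]⟩

theorem dg_mul {F : Type*} [Field F] (a b : Fˣ) : dg (a * b) = dg a * dg b := by
  apply Subtype.ext
  change !![((a * b : Fˣ) : F), 0; 0, (((a * b)⁻¹ : Fˣ) : F)] =
    !![(a : F), 0; 0, ((a⁻¹ : Fˣ) : F)] * !![(b : F), 0; 0, ((b⁻¹ : Fˣ) : F)]
  ext i j
  (revert i j; simp only [Matrix.mul_apply, Fin.sum_univ_two, mul_comm, _root_.Fin.forall_fin_succ, _root_.Units.val_mul, _root_.mul_inv_rev, _root_.Units.val_inv_eq_inv_val, _root_.Matrix.of_apply, _root_.Matrix.cons_val', _root_.Matrix.cons_val_fin_one, Fin.isValue, _root_.Matrix.cons_val_zero, _root_.Matrix.cons_val_one, _root_.MulZeroClass.zero_mul, _root_.add_zero, _root_.Matrix.cons_val_succ, _root_.zero_add, _root_.forall_const, _root_.MulZeroClass.mul_zero, _root_.and_self, _root_.implies_true])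

/-- the split torus -/
def dgHom (F : Type*) [Field F] : Fˣ →* SL(2, F) := MonoidHom.mk' dg dg_mul

theorem dgHom_injective (F : Type*) [Field F] : Function.Injective (dgHom F) := by
  intro a b h
  apply Units.ext
  have := congrArg (fun g : SL(2, F) => (g : Matrix (Fin 2) (Fin 2) F) 0 0) h
  simpa [dgHom, dg] using this

/-- upper unipotent elements -/
def up {F : Type*} [Field F] (b : F) : SL(2, F) := ⟨!![1, b; 0, 1], by simp [Matrix.det_fin_two]⟩

theorem up_add {F : Type*} [Field F] (a b : F) : up (a + b) = up a * up b := by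
  apply Subtype.ext
  change !![1, a + b; 0, 1] = !![1, a; 0, 1] * !![1, b; 0, 1]
  ext i j
  (revert i j; simp only [Matrix.mul_apply, Fin.sum_univ_two, add_comm, _root_.Fin.forall_fin_succ, _root_.Matrix.of_apply, _root_.Matrix.cons_val', _root_.Matrix.cons_val_fin_one, Fin.isValue, _root_.Matrix.cons_val_zero, _root_.Matrix.cons_val_one, _root_.mul_one, _root_.MulZeroClass.mul_zero, _root_.zero_add, _root_.Matrix.cons_val_succ, _root_.forall_const, _root_.true_and, _root_.one_mul, _root_.MulZeroClass.zero_mul, _root_.implies_true, _root_.and_self])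

/-- the root subgroup -/
def upHom (F : Type*) [Field F] : Multiplicative F →* SL(2, F) :=
  MonoidHom.mk' (fun b => up b.toAdd) (fun _ _ => up_add _ _)

theorem up_eq {F : Type*} [Field F] {a b : F} (h : pr F (up a) = pr F (up b)) : a = b := by
  rcases (pr_eq_iff _ _).mp h with h | h
  · have := congrArg (fun g : SL(2, F) => (g : Matrix (Fin 2) (Fin 2) F) 0 1) h
    simpa [up] using this
  · have hh : (!![1, a; 0, 1] : Matrix (Fin 2) (Fin 2) F) = -!![1, b; 0, 1] := by
      have := congrArg (fun g : SL(2, F) => (g : Matrix (Fin 2) (Fin 2) F)) h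
      simp only [Matrix.SpecialLinearGroup.coe_neg] at this
      exact this
    have h0 := congrFun (congrFun hh 0) 1
    have h1 := congrFun (congrFun hh 0) 0
    simp at h0 h1
    have h2 : b + b = 0 := by
      have : (1 : F) + 1 = 0 := by linear_combination h1
      calc b + b = (1 + 1) * b := by ring
        _ = 0 := by rw [this, zero_mul]
    rw [h0]
    exact neg_eq_of_add_eq_zero_left h2

theorem dg_conj_up {F : Type*} [Field F] (a : Fˣ) (b : F) :
    dg a * up b * (dg a)⁻¹ = up ((a : F) ^ 2 * b) := by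
  rw [mul_inv_eq_iff_eq_mul]
  apply Subtype.ext
  change !![(a : F), 0; 0, ((a⁻¹ : Fˣ) : F)] * !![1, b; 0, 1] =
    !![1, (a : F) ^ 2 * b; 0, 1] * !![(a : F), 0; 0, ((a⁻¹ : Fˣ) : F)]
  ext i j
  (revert i j; simp only [Matrix.mul_apply, Fin.sum_univ_two, _root_.Fin.forall_fin_succ, _root_.Units.val_inv_eq_inv_val, _root_.Matrix.of_apply, _root_.Matrix.cons_val', _root_.Matrix.cons_val_fin_one, Fin.isValue, _root_.Matrix.cons_val_zero, _root_.Matrix.cons_val_one, _root_.mul_one, _root_.MulZeroClass.mul_zero, _root_.add_zero, _root_.Matrix.cons_val_succ, _root_.zero_add, _root_.forall_const, _root_.one_mul, _root_.MulZeroClass.zero_mul, _root_.implies_true, _root_.and_true, _root_.true_and]) <;> (repeat' with_reducible apply And.intro)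
  field_simp

/-- `A ^ (2 s) = 1` gives `g ^ s = 1` -/
theorem pow_char {F : Type*} [Field F] {s : ℕ} (hs : s.Prime) [CharP F s] (A : SL(2, F)) (h : A ^ (2 * s) = 1) :
    pr F A ^ s = 1 := by
  by_cases h2 : (2 : F) = 0
  · have hs2 : s = 2 := by
      have h3 := (CharP.cast_eq_zero_iff F s 2).mp (by exact_mod_cast h2)
      exact (Nat.prime_dvd_prime_iff_eq hs Nat.prime_two).mp h3
    subst hs2
    have key : A ^ 2 = 1 := by
      have hA := sl2_mul_self A
      set B : Matrix (Fin 2) (Fin 2) F := (A : Matrix (Fin 2) (Fin 2) F) with hB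
      set t : F := B.trace with ht
      have h4 : B * B * (B * B) = 1 := by
        have := congrArg (fun g : SL(2, F) => (g : Matrix (Fin 2) (Fin 2) F)) h
        simp only [Matrix.SpecialLinearGroup.coe_pow, Matrix.SpecialLinearGroup.coe_one] at this
        rw [← this, ← hB]
        simp only [show 2 * 2 = 4 from rfl, pow_succ, pow_zero, one_mul, mul_assoc]
      have hcc : (1 : Matrix (Fin 2) (Fin 2) F) + 1 = 0 := by
        ext i j
        (revert i j; simp only [_root_.Fin.forall_fin_succ, _root_.Matrix.add_apply, _root_.Matrix.zero_apply, _root_.IsEmpty.forall_iff, _root_.and_true, _root_.Matrix.one_apply_eq, Nat.reduceAdd, Fin.isValue, _root_.Fin.succ_zero_eq_one, _root_.ne_eq, _root_.zero_ne_one, _root_.not_false_eq_true, _root_.Matrix.one_apply_ne, _root_.add_zero, _root_.Fin.succ_ne_zero, _root_.true_and, _root_.and_self]) <;> (repeat' with_reducible apply And.intro) <;> linear_combination h2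
      have hneg : ∀ X : Matrix (Fin 2) (Fin 2) F, X + X = 0 := by
        intro X
        calc X + X = (1 + 1) * X := by rw [add_mul, one_mul]
          _ = 0 := by rw [hcc, zero_mul]
      have h5 : B * B * (B * B) = t ^ 2 • (B * B) + 1 := by
        have e1 : (t • B - 1) * (t • B - 1) = (t * t) • (B * B) - (t • B + t • B) + 1 := by
          simp only [sub_mul, mul_sub, one_mul, mul_one, smul_mul_assoc, mul_smul_comm, smul_smul, smul_sub]
          abel
        have e2 : B * B * (B * B) = (t • B - 1) * (t • B - 1) := by rw [hA]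
        rw [e2, e1, hneg, sub_zero, pow_two]
      rw [h5] at h4
      have h6 : t ^ 2 • (B * B) = 0 := by
        have := congrArg (fun X => X - 1) h4
        simpa only [_root_.smul_eq_zero, _root_.ne_eq, _root_.OfNat.ofNat_ne_zero, _root_.not_false_eq_true, _root_.pow_eq_zero_iff, _root_.add_sub_cancel_right, _root_.sub_self] using this
      have h7 : t = 0 := by
        by_contra ht0
        have h8 : B * B = 0 := by
          have := congrArg (fun X => (t ^ 2)⁻¹ • X) h6
          simpa only [smul_smul, inv_mul_cancel₀ (pow_ne_zero 2 ht0), _root_.one_smul, _root_.smul_zero] using this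
        have h9 : B.det * B.det = 0 := by rw [← Matrix.det_mul, h8]; simp
        have h10 : B.det = 1 := A.2
        rw [h10] at h9
        simp at h9
      apply Subtype.ext
      rw [h7, zero_smul, zero_sub] at hA
      change ((A ^ 2 : SL(2, F)) : Matrix (Fin 2) (Fin 2) F) = ((1 : SL(2, F)) : Matrix (Fin 2) (Fin 2) F)
      rw [Matrix.SpecialLinearGroup.coe_pow, pow_two, ← hB, hA, Matrix.SpecialLinearGroup.coe_one]
      exact (neg_eq_of_add_eq_zero_left hcc)
    rw [← map_pow, key, map_one]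
  · have h3 : (A ^ s) * (A ^ s) = 1 := by rw [← pow_add, ← h]; congr 1; ring
    rw [← map_pow, pr_eq_one_iff]
    exact Cfsg.Agent.ClassicalGeometry.PSL2ElemOrder.eq_one_or_of_sq h2 _ h3

theorem psl_orderOf_dvd {F : Type*} [Field F] [Fintype F] {s : ℕ} (hs : s.Prime) [CharP F s]
    (g : Matrix.ProjectiveSpecialLinearGroup (Fin 2) F) :
    orderOf g ∣ s ∨ orderOf g ∣ Fintype.card F - 1 ∨ orderOf g ∣ Fintype.card F + 1 := by
  have : Fact s.Prime := ⟨hs⟩
  obtain ⟨A, rfl⟩ := pr_surjective F g
  rcases Cfsg.Agent.ClassicalGeometry.SL2Order.pow_cases rfl s A with h | h | h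
  · right; left
    apply orderOf_dvd_of_pow_eq_one
    rw [← map_pow, h, map_one]
  · right; right
    apply orderOf_dvd_of_pow_eq_one
    rw [← map_pow, h, map_one]
  · left
    exact orderOf_dvd_of_pow_eq_one (pow_char hs A h)

/-- a `p`-subgroup is cyclic if there is a cyclic subgroup of index prime to `p` -/
theorem isCyclic_of_index {X : Type*} [Group X] [Finite X] {p : ℕ} (hp : p.Prime) {C : Subgroup X} (hC : IsCyclic C)
    (hidx : ¬ p ∣ C.index) {T : Subgroup X} (hT : IsPGroup p T) : IsCyclic T := by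
  have : Fact p.Prime := ⟨hp⟩
  have h1 : ¬ p ∣ Nat.card (X ⧸ C) := hidx
  obtain ⟨x, hx⟩ := hT.nonempty_fixed_point_of_prime_not_dvd_card (X ⧸ C) h1
  obtain ⟨g, rfl⟩ := QuotientGroup.mk_surjective x
  have h2 : ∀ t ∈ T, g⁻¹ * t * g ∈ C := by
    intro t ht
    have h3 := hx ⟨t, ht⟩
    have h4 : ((t * g : X) : X ⧸ C) = (g : X ⧸ C) := h3
    have h5 := QuotientGroup.eq.mp h4.symm
    rwa [← mul_assoc] at h5
  let φ : T →* C :=
    { toFun := fun t => ⟨g⁻¹ * t * g, h2 t t.2⟩
      map_one' := by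
        apply Subtype.ext
        simp
      map_mul' := fun a b => by
        apply Subtype.ext
        simp only [mul_assoc, _root_.Subgroup.coe_mul, _root_.MulMemClass.mk_mul_mk, _root_.mul_inv_cancel_left] }
  exact isCyclic_of_injective φ (by
    intro a b hab
    have h3 : g⁻¹ * (a : X) * g = g⁻¹ * (b : X) * g := congrArg Subtype.val hab
    apply Subtype.ext
    simpa only [_root_.SetLike.coe_eq_coe, _root_.mul_left_inj, _root_.mul_right_inj] using h3)

end PB

open PB Cfsg.Agent.ClassicalGeometry.PSLTorus Cfsg.Agent.ClassicalGeometry.PSL2Basic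

variable {s f : ℕ} {L : Type u} [Group L] [Finite L]

theorem IsPSL.card_even (h : IsPSL s f L) (hs : s = 2) : Nat.card L = s ^ f * (s ^ f - 1) * (s ^ f + 1) := by
  obtain ⟨hs', F, _, _, hF, ⟨e⟩⟩ := h
  subst hs
  rw [Nat.card_congr e.toEquiv, card_PSL2_even F (even_card hF), ← hF, sq_sub_one Fintype.card_pos, mul_assoc]

theorem IsPSL.card_odd (h : IsPSL s f L) (hs : s ≠ 2) : 2 * Nat.card L = s ^ f * (s ^ f - 1) * (s ^ f + 1) := by
  obtain ⟨hs', F, _, _, hF, ⟨e⟩⟩ := h
  rw [Nat.card_congr e.toEquiv, mul_comm, card_PSL2_odd F (odd_card hs' hF hs), ← hF, sq_sub_one Fintype.card_pos,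
    mul_assoc]

theorem IsPSL.orderOf_dvd (h : IsPSL s f L) (g : L) :
    orderOf g ∣ s ∨ orderOf g ∣ s ^ f - 1 ∨ orderOf g ∣ s ^ f + 1 := by
  obtain ⟨hs', F, _, _, hF, ⟨e⟩⟩ := h
  have := charP_of_card hs' hF
  rw [← orderOf_injective e.toMonoidHom e.injective g, ← hF]
  exact psl_orderOf_dvd hs' _

theorem IsPSL.has_mul (h : IsPSL s f L) {p q : ℕ} (hp : p.Prime) (hq : q.Prime) (hp2 : p ≠ 2) (hq2 : q ≠ 2) (hpq : p ≠ q)
    (hd : (p ∣ s ^ f - 1 ∧ q ∣ s ^ f - 1) ∨ (p ∣ s ^ f + 1 ∧ q ∣ s ^ f + 1)) : Has L (p * q) := by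
  obtain ⟨hs', F, _, _, hF, ⟨e⟩⟩ := h
  classical
  apply has_congr e
  have hcop : Nat.Coprime p q := (Nat.coprime_primes hp hq).mpr hpq
  have hoddpq : Odd (p * q) := (hp.odd_of_ne_two hp2).mul (hq.odd_of_ne_two hq2)
  rcases hd with ⟨h1, h2⟩ | ⟨h1, h2⟩
  · have h3 : p * q ∣ Nat.card Fˣ := by
      rw [Nat.card_eq_fintype_card, Fintype.card_units, hF]
      exact hcop.mul_dvd_of_dvd_of_dvd h1 h2
    obtain ⟨a, ha⟩ := IsCyclic.exists_ofOrder_eq_natCard (α := Fˣ)
    obtain ⟨k, hk⟩ := h3
    have hk0 : k ≠ 0 := by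
      rintro rfl
      rw [mul_zero] at hk
      exact Nat.card_pos.ne' hk
    have h4 : orderOf (a ^ k) = p * q := by
      rw [orderOf_pow_of_dvd hk0 (by rw [ha, hk]; exact dvd_mul_left _ _), ha, hk]
      exact Nat.mul_div_cancel _ (Nat.pos_of_ne_zero hk0)
    have h5 : orderOf (dgHom F (a ^ k)) = p * q := by
      rw [orderOf_injective (dgHom F) (dgHom_injective F), h4]
    exact ⟨pr F (dgHom F (a ^ k)), by rw [orderOf_pr_odd _ (by rw [h5]; exact hoddpq), h5]⟩
  · obtain ⟨C, H, -, -, hC, hcard, -⟩ := exists_psl_torus F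
    have h3 : p * q ∣ Nat.card C := by
      rw [hcard, hF]
      have h4 : p * q ∣ s ^ f + 1 := hcop.mul_dvd_of_dvd_of_dvd h1 h2
      have h5 : Nat.gcd 2 (s ^ f - 1) ∣ s ^ f + 1 := by
        rcases (Nat.dvd_prime Nat.prime_two).mp (Nat.gcd_dvd_left 2 (s ^ f - 1)) with h6 | h6
        · rw [h6]; exact one_dvd _
        · have h7 := Nat.gcd_dvd_right 2 (s ^ f - 1)
          rw [h6] at h7 ⊢
          have h8 : 1 ≤ s ^ f := Nat.one_le_iff_ne_zero.mpr (pow_ne_zero _ hs'.ne_zero)
          omega
      obtain ⟨c, hc⟩ := h5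
      rw [hc, Nat.mul_div_cancel_left _ (Nat.gcd_pos_of_pos_left _ (by norm_num))]
      rw [hc] at h4
      apply Nat.Coprime.dvd_of_dvd_mul_left _ h4
      exact Nat.Coprime.symm ((Nat.coprime_two_left.mpr hoddpq).coprime_dvd_left (Nat.gcd_dvd_left _ _))
    obtain ⟨a, ha⟩ := IsCyclic.exists_ofOrder_eq_natCard (α := C)
    obtain ⟨k, hk⟩ := h3
    have hk0 : k ≠ 0 := by
      rintro rfl
      rw [mul_zero] at hk
      exact Nat.card_pos.ne' hk
    refine ⟨((a ^ k : C) : Matrix.ProjectiveSpecialLinearGroup (Fin 2) F), ?_⟩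
    rw [Subgroup.orderOf_coe, orderOf_pow_of_dvd hk0 (by rw [ha, hk]; exact dvd_mul_left _ _), ha, hk]
    exact Nat.mul_div_cancel _ (Nat.pos_of_ne_zero hk0)

theorem IsPSL.piv (h : IsPSL s f L) {r : ℕ} (hr : r.Prime) (hr2 : r ≠ 2) (hd : r ∣ s ^ f - 1) : Piv L s r := by
  obtain ⟨hs', F, _, _, hF, ⟨e⟩⟩ := h
  classical
  have hchar := charP_of_card hs' hF
  have : Fact s.Prime := ⟨hs'⟩
  -- an element of order `r` of the multiplicative group
  have h3 : r ∣ Nat.card Fˣ := by
    rwa [Nat.card_eq_fintype_card, Fintype.card_units, hF]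
  have : Fact r.Prime := ⟨hr⟩
  obtain ⟨a, ha⟩ := exists_prime_orderOf_dvd_card' r h3
  have h5 : orderOf (dgHom F a) = r := by
    rw [orderOf_injective (dgHom F) (dgHom_injective F), ha]
  have h6 : orderOf (pr F (dgHom F a)) = r := by
    rw [orderOf_pr_odd _ (by rw [h5]; exact hr.odd_of_ne_two hr2), h5]
  let φ : Multiplicative F →* L := e.symm.toMonoidHom.comp ((pr F).comp (upHom F))
  have hφ : ∀ b : F, φ (Multiplicative.ofAdd b) = e.symm (pr F (up b)) := fun _ => rfl
  set k : L := e.symm (pr F (dg a)) with hk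
  have hconj : ∀ b : F, k * φ (Multiplicative.ofAdd b) * k⁻¹ = φ (Multiplicative.ofAdd ((a : F) ^ 2 * b)) := by
    intro b
    rw [hφ, hφ, hk, ← map_inv, ← map_mul, ← map_mul, ← map_inv, ← map_mul, ← map_mul, dg_conj_up]
  have hpow : IsPGroup s (Multiplicative F) := by
    intro x
    refine ⟨1, ?_⟩
    rw [pow_one]
    have : (s : F) = 0 := CharP.cast_eq_zero F s
    change s • (Multiplicative.toAdd x) = 0
    rw [nsmul_eq_mul, this, zero_mul]
  refine ⟨φ.range, k, ?_, ?_, ?_, ?_, ?_⟩
  · rw [MonoidHom.range_eq_map]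
    exact (hpow.to_subgroup ⊤).map φ
  · intro hbot
    have h7 : φ (Multiplicative.ofAdd 1) ∈ φ.range := ⟨_, rfl⟩
    rw [hbot, mem_bot, hφ] at h7
    have h8 : pr F (up (1 : F)) = pr F (up 0) := by
      have h9 : pr F (up (1 : F)) = 1 := by
        have := congrArg e h7
        simpa only [_root_.MulEquiv.apply_symm_apply, _root_.map_one] using this
      have h10 : up (0 : F) = 1 := by
        apply Subtype.ext
        ext i j
        (revert i j; simp only [up, _root_.Fin.forall_fin_succ, _root_.Matrix.of_apply, _root_.Matrix.cons_val', _root_.Matrix.cons_val_fin_one, _root_.Matrix.SpecialLinearGroup.coe_one, Fin.isValue, _root_.Matrix.cons_val_zero, _root_.Matrix.cons_val_succ, _root_.IsEmpty.forall_iff, _root_.and_true, _root_.Matrix.one_apply_eq, Nat.reduceAdd, _root_.Fin.succ_zero_eq_one, _root_.ne_eq, _root_.zero_ne_one, _root_.not_false_eq_true, _root_.Matrix.one_apply_ne, _root_.and_self, _root_.Fin.succ_ne_zero, _root_.true_and])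
      rw [h9, h10, map_one]
    exact one_ne_zero (up_eq h8)
  · rw [mem_normalizer_iff]
    intro x
    constructor
    · rintro ⟨b, rfl⟩
      exact ⟨_, (hconj (Multiplicative.toAdd b)).symm⟩
    · rintro ⟨b, hb⟩
      refine ⟨Multiplicative.ofAdd (((a : F) ^ 2)⁻¹ * Multiplicative.toAdd b), ?_⟩
      have h7 := hconj (((a : F) ^ 2)⁻¹ * Multiplicative.toAdd b)
      rw [mul_inv_cancel_left₀ (pow_ne_zero 2 a.ne_zero)] at h7
      have h8 : k * φ (Multiplicative.ofAdd (((a : F) ^ 2)⁻¹ * Multiplicative.toAdd b)) * k⁻¹ = k * x * k⁻¹ := by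
        rw [h7, ← hb]
        rfl
      simpa only [_root_.mul_left_inj, _root_.mul_right_inj] using h8
  · rw [hk]
    rw [← h6]
    exact orderOf_injective e.symm.toMonoidHom e.symm.injective _
  · rw [eq_bot_iff]
    rintro x ⟨⟨b, rfl⟩, hx2⟩
    have hx3 : φ b ∈ centralizer {k} := hx2
    rw [mem_centralizer_singleton_iff] at hx3
    have h7 := hconj (Multiplicative.toAdd b)
    have h8 : k * φ (Multiplicative.ofAdd (Multiplicative.toAdd b)) * k⁻¹ =
        φ (Multiplicative.ofAdd (Multiplicative.toAdd b)) := by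
      rw [mul_inv_eq_iff_eq_mul]
      exact hx3.symm
    rw [h8, hφ, hφ] at h7
    have h9 := up_eq (e.symm.injective h7)
    have h10 : Multiplicative.toAdd b = 0 := by
      by_contra hb0
      have h11 : (a : F) ^ 2 = 1 := by
        have : ((a : F) ^ 2 - 1) * Multiplicative.toAdd b = 0 := by linear_combination -h9
        rcases mul_eq_zero.mp this with h | h
        · linear_combination h
        · exact absurd h hb0
      have h12 : a ^ 2 = 1 := Units.ext (by simpa only [_root_.Units.val_pow_eq_pow_val, _root_.Units.val_one, _root_.sq_eq_one_iff, _root_.Units.val_eq_one, _root_.Units.val_eq_neg_one] using h11)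
      have h13 := orderOf_dvd_of_pow_eq_one h12
      rw [ha] at h13
      exact hr2 ((Nat.prime_dvd_prime_iff_eq hr Nat.prime_two).mp h13)
    rw [mem_bot]
    have h14 : b = 1 := by
      apply Multiplicative.toAdd.injective
      exact h10
    rw [h14, map_one]

theorem IsPSL.isCyclic (h : IsPSL s f L) {p : ℕ} (hp : p.Prime) (hp2 : p ≠ 2) (hps : p ≠ s ∨ f = 1)
    {T : Subgroup L} (hT : IsPGroup p T) : IsCyclic T := by
  have h' := h
  obtain ⟨hs', F, _, _, hF, ⟨e⟩⟩ := h
  classical
  have hchar := charP_of_card hs' hF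
  have : Fact s.Prime := ⟨hs'⟩
  have : Fact p.Prime := ⟨hp⟩
  have hu : 1 < s ^ f := by rw [← hF]; exact Fintype.one_lt_card
  have hcardL : Nat.card L = Nat.card (Matrix.ProjectiveSpecialLinearGroup (Fin 2) F) := Nat.card_congr e.toEquiv
  -- the order of `L`
  have hcard : ∃ c, (c = 1 ∨ c = 2) ∧ c * Nat.card L = s ^ f * (s ^ f - 1) * (s ^ f + 1) := by
    by_cases hs2 : s = 2
    · exact ⟨1, Or.inl rfl, by rw [one_mul]; exact h'.card_even hs2⟩
    · exact ⟨2, Or.inr rfl, h'.card_odd hs2⟩
  obtain ⟨c, hc, hcard⟩ := hcard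
  have hpc : ¬ p ∣ c := by
    rcases hc with rfl | rfl
    · exact hp.not_dvd_one
    · intro h
      exact hp2 ((Nat.prime_dvd_prime_iff_eq hp Nat.prime_two).mp h)
  -- reduction to a cyclic subgroup of index prime to `p`
  have key : ∀ n : ℕ, Has (Matrix.ProjectiveSpecialLinearGroup (Fin 2) F) n →
      ¬ p ^ (padicValNat p n + 1) ∣ Nat.card L → IsCyclic T := by
    intro n hn hnd
    obtain ⟨g, hg⟩ := has_congr e hn
    apply isCyclic_of_index hp (C := zpowers g) inferInstance _ hT
    intro hdvd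
    apply hnd
    have h1 : n * (zpowers g).index = Nat.card L := by
      rw [← (zpowers g).card_mul_index, Nat.card_zpowers, hg]
    rw [← h1, pow_succ]
    exact Nat.mul_dvd_mul pow_padicValNat_dvd hdvd
  by_cases h0 : p = s
  · subst h0
    have hf : f = 1 := hps.resolve_left (fun h => h rfl)
    subst hf
    apply key p
    · have h8 : pr F (up (1 : F)) ≠ 1 := by
        intro h9
        have h10 : up (0 : F) = 1 := by
          apply Subtype.ext
          ext i j
          (revert i j; simp only [up, _root_.Fin.forall_fin_succ, _root_.Matrix.of_apply, _root_.Matrix.cons_val', _root_.Matrix.cons_val_fin_one, _root_.Matrix.SpecialLinearGroup.coe_one, Fin.isValue, _root_.Matrix.cons_val_zero, _root_.Matrix.cons_val_succ, _root_.IsEmpty.forall_iff, _root_.and_true, _root_.Matrix.one_apply_eq, Nat.reduceAdd, _root_.Fin.succ_zero_eq_one, _root_.ne_eq, _root_.zero_ne_one, _root_.not_false_eq_true, _root_.Matrix.one_apply_ne, _root_.and_self, _root_.Fin.succ_ne_zero, _root_.true_and])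
        have h11 : pr F (up (1 : F)) = pr F (up 0) := by rw [h9, h10, map_one]
        exact one_ne_zero (up_eq h11)
      refine ⟨pr F (up (1 : F)), orderOf_eq_prime ?_ h8⟩
      have h9 : upHom F (Multiplicative.ofAdd 1) = up (1 : F) := rfl
      rw [← h9, ← map_pow, ← map_pow]
      have h10 : (Multiplicative.ofAdd (1 : F)) ^ p = 1 := by
        change Multiplicative.ofAdd (p • (1 : F)) = Multiplicative.ofAdd 0
        rw [nsmul_eq_mul, CharP.cast_eq_zero F p, zero_mul]
      rw [h10, map_one, map_one]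
    · rw [padicValNat_self]
      intro hd
      have h1 : p ^ 2 ∣ p ^ 1 * (p ^ 1 - 1) * (p ^ 1 + 1) := by
        rw [← hcard]
        exact hd.mul_left c
      rw [pow_one, pow_two, mul_assoc] at h1
      have h2 := Nat.dvd_of_mul_dvd_mul_left hp.pos h1
      rcases hp.dvd_mul.mp h2 with h3 | h3
      · have := Nat.le_of_dvd (by have := hp.two_le; omega) h3
        have := hp.two_le
        omega
      · have h4 := (Nat.dvd_add_right (dvd_refl p)).mp h3
        exact hp.not_dvd_one h4
  · have hpu : ¬ p ∣ s ^ f := by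
      intro h
      exact h0 ((Nat.prime_dvd_prime_iff_eq hp hs').mp (hp.dvd_of_dvd_pow h))
    by_cases h1 : p ∣ s ^ f - 1
    · -- split torus
      have h2 : ¬ p ∣ s ^ f + 1 := by
        intro h
        have h3 := Nat.dvd_sub h h1
        have h4 : s ^ f + 1 - (s ^ f - 1) = 2 := by omega
        rw [h4] at h3
        exact hp2 ((Nat.prime_dvd_prime_iff_eq hp Nat.prime_two).mp h3)
      set v := padicValNat p (s ^ f - 1) with hv
      have hu0 : s ^ f - 1 ≠ 0 := by omega
      apply key (p ^ v)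
      · have h3 : p ^ v ∣ Nat.card Fˣ := by
          rw [Nat.card_eq_fintype_card, Fintype.card_units, hF]
          exact pow_padicValNat_dvd
        obtain ⟨a, ha⟩ := IsCyclic.exists_ofOrder_eq_natCard (α := Fˣ)
        obtain ⟨k, hk⟩ := h3
        have hk0 : k ≠ 0 := by
          rintro rfl
          rw [mul_zero] at hk
          exact Nat.card_pos.ne' hk
        have h4 : orderOf (a ^ k) = p ^ v := by
          rw [orderOf_pow_of_dvd hk0 (by rw [ha, hk]; exact dvd_mul_left _ _), ha, hk]
          exact Nat.mul_div_cancel _ (Nat.pos_of_ne_zero hk0)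
        have h5 : orderOf (dgHom F (a ^ k)) = p ^ v := by
          rw [orderOf_injective (dgHom F) (dgHom_injective F), h4]
        exact ⟨pr F (dgHom F (a ^ k)), by
          rw [orderOf_pr_odd _ (by rw [h5]; exact (hp.odd_of_ne_two hp2).pow), h5]⟩
      · rw [padicValNat.prime_pow]
        intro hd
        have h3 : p ^ (v + 1) ∣ s ^ f * (s ^ f - 1) * (s ^ f + 1) := by
          rw [← hcard]
          exact hd.mul_left c
        have h4 : p ^ (v + 1) ∣ s ^ f * (s ^ f - 1) :=
          (Nat.Coprime.pow_left _ ((Nat.Prime.coprime_iff_not_dvd hp).mpr h2)).dvd_of_dvd_mul_right h3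
        have h5 : p ^ (v + 1) ∣ s ^ f - 1 :=
          (Nat.Coprime.pow_left _ ((Nat.Prime.coprime_iff_not_dvd hp).mpr hpu)).dvd_of_dvd_mul_left h4
        exact pow_succ_padicValNat_not_dvd hu0 h5
    · -- nonsplit torus
      set v := padicValNat p (s ^ f + 1) with hv
      have hu0 : s ^ f + 1 ≠ 0 := by omega
      apply key (p ^ v)
      · obtain ⟨C, H, -, -, hC, hcC, -⟩ := exists_psl_torus F
        have h3 : p ^ v ∣ Nat.card C := by
          rw [hcC, hF]
          have h4 : p ^ v ∣ s ^ f + 1 := pow_padicValNat_dvd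
          have h5 : Nat.gcd 2 (s ^ f - 1) ∣ s ^ f + 1 := by
            rcases (Nat.dvd_prime Nat.prime_two).mp (Nat.gcd_dvd_left 2 (s ^ f - 1)) with h6 | h6
            · rw [h6]; exact one_dvd _
            · have h7 := Nat.gcd_dvd_right 2 (s ^ f - 1)
              rw [h6] at h7 ⊢
              omega
          obtain ⟨c', hc'⟩ := h5
          rw [hc', Nat.mul_div_cancel_left _ (Nat.gcd_pos_of_pos_left _ (by norm_num))]
          rw [hc'] at h4
          apply Nat.Coprime.dvd_of_dvd_mul_left _ h4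
          exact Nat.Coprime.symm ((Nat.coprime_two_left.mpr ((hp.odd_of_ne_two hp2).pow)).coprime_dvd_left
            (Nat.gcd_dvd_left _ _))
        obtain ⟨a, ha⟩ := IsCyclic.exists_ofOrder_eq_natCard (α := C)
        obtain ⟨k, hk⟩ := h3
        have hk0 : k ≠ 0 := by
          rintro rfl
          rw [mul_zero] at hk
          exact Nat.card_pos.ne' hk
        refine ⟨((a ^ k : C) : Matrix.ProjectiveSpecialLinearGroup (Fin 2) F), ?_⟩
        rw [Subgroup.orderOf_coe, orderOf_pow_of_dvd hk0 (by rw [ha, hk]; exact dvd_mul_left _ _), ha, hk]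
        exact Nat.mul_div_cancel _ (Nat.pos_of_ne_zero hk0)
      · rw [padicValNat.prime_pow]
        intro hd
        have h3 : p ^ (v + 1) ∣ s ^ f * (s ^ f - 1) * (s ^ f + 1) := by
          rw [← hcard]
          exact hd.mul_left c
        rw [mul_comm] at h3
        have h6 : Nat.Coprime (p ^ (v + 1)) (s ^ f * (s ^ f - 1)) := by
          apply Nat.Coprime.pow_left
          rw [Nat.Prime.coprime_iff_not_dvd hp, hp.dvd_mul]
          (clear * - hpu h1; tauto)
        exact pow_succ_padicValNat_not_dvd hu0 (h6.dvd_of_dvd_mul_right h3)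

/-! ### The components of linear type -/

theorem IsL2.four_le (h : IsL2 s f L) : 8 ≤ s ^ f := by
  rcases h.type with ⟨rfl, h1⟩ | ⟨-, -, h1⟩
  · calc 8 = 2 ^ 3 := by norm_num
      _ ≤ 2 ^ f := Nat.pow_le_pow_right (by norm_num) h1
  · omega

theorem IsL2.simple (h : IsL2 s f L) : IsSimpleGroup L := by
  have h8 := h.four_le
  obtain ⟨hs', F, _, _, hF, ⟨e⟩⟩ := h.psl
  have : IsSimpleGroup (Matrix.ProjectiveSpecialLinearGroup (Fin 2) F) :=
    Matrix.ProjectiveSpecialLinearGroup.rank_two_simple (by rw [Nat.card_eq_fintype_card]; omega)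
  exact e.isSimpleGroup

open scoped commutatorElement in
theorem IsL2.perfect (h : IsL2 s f L) : ⁅(⊤ : Subgroup L), (⊤ : Subgroup L)⁆ = ⊤ := by
  have h8 := h.four_le
  have hsimp := h.simple
  obtain ⟨hs', F, _, _, hF, ⟨e⟩⟩ := h.psl
  rcases hsimp.eq_bot_or_eq_top_of_normal ⁅(⊤ : Subgroup L), (⊤ : Subgroup L)⁆ inferInstance with h1 | h1
  · exfalso
    apply Cfsg.Agent.ClassicalGeometry.PSL2Solvable.not_isSolvable_psl F (by omega)
    have h2 : Group.IsSolvable L := by
      have h3 : commutator L = ⊥ := h1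
      have h4 : ∀ a b : L, a * b = b * a := by
        intro a b
        have h5 : ⁅a, b⁆ ∈ (⊥ : Subgroup L) := by
          rw [← h1]
          exact commutator_mem_commutator (mem_top a) (mem_top b)
        rw [mem_bot, commutatorElement_eq_one_iff_mul_comm] at h5
        exact h5
      exact Group.isSolvable_of_comm h4
    exact Group.isSolvable_of_isSolvable_injective (f := e.symm.toMonoidHom) e.symm.injective
  · exact h1

theorem three_dvd_mul (u : ℕ) (hu : 1 ≤ u) : 3 ∣ u * (u - 1) * (u + 1) := by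
  obtain ⟨k, rfl⟩ : ∃ k, u = k + 1 := ⟨u - 1, by omega⟩
  have h : k % 3 = 0 ∨ k % 3 = 1 ∨ k % 3 = 2 := by omega
  rw [Nat.dvd_iff_mod_eq_zero]
  simp only [Nat.add_sub_cancel]
  rcases h with h | h | h <;> simp only [Nat.mul_mod, Nat.add_mod, h, _root_.Nat.one_mod, _root_.zero_add, _root_.MulZeroClass.mul_zero, _root_.Nat.zero_mod, _root_.Nat.reduceAdd, _root_.Nat.mod_succ, _root_.MulZeroClass.zero_mul, _root_.mul_one, _root_.Nat.mod_self]

theorem IsL2.three_dvd (h : IsL2 s f L) : 3 ∣ Nat.card L := by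
  have h1 := three_dvd_mul (s ^ f) (by have := h.four_le; omega)
  by_cases hs : s = 2
  · rwa [h.psl.card_even hs]
  · rw [← h.psl.card_odd hs] at h1
    exact (Nat.Coprime.dvd_of_dvd_mul_left (by norm_num) h1)

theorem IsL2.piv_three (h : IsL2 s f L) (hs : s ≠ 2) : Piv L 2 3 := by
  obtain ⟨hs', F, _, _, hF, ⟨e⟩⟩ := h.psl
  have hchar := charP_of_card hs' hF
  have : Fact s.Prime := ⟨hs'⟩
  obtain ⟨H, ⟨i⟩⟩ := (Cfsg.Agent.S0802.result s f hF).mpr (fun h => hs h.1)
  let φ : alternatingGroup (Fin 4) →* L := e.symm.toMonoidHom.comp (H.subtype.comp i.symm.toMonoidHom)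
  have hφ : Function.Injective φ := e.symm.injective.comp (H.subtype_injective.comp i.symm.injective)
  let V : Subgroup (alternatingGroup (Fin 4)) :=
    { carrier := {x | x * x = 1}
      one_mem' := by
        change (1 : alternatingGroup (Fin 4)) * 1 = 1
        rw [mul_one]
      mul_mem' := fun {x y} hx hy => a4_mul x y hx hy
      inv_mem' := fun {x} hx => by
        have hx' : x * x = 1 := hx
        change x⁻¹ * x⁻¹ = 1
        rw [← mul_inv_rev, hx', inv_one] }
  refine ⟨V.map φ, φ c4, ?_, ?_, ?_, ?_, ?_⟩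
  · apply IsPGroup.map
    rintro ⟨x, hx⟩
    refine ⟨1, ?_⟩
    apply Subtype.ext
    have hx' : x * x = 1 := hx
    change x ^ 2 ^ 1 = 1
    rw [pow_one, pow_two, hx']
  · intro hbot
    obtain ⟨x, hx, hx1⟩ := a4_ne
    apply hx1
    apply hφ
    rw [map_one, ← mem_bot, ← hbot]
    exact ⟨x, hx, rfl⟩
  · rw [mem_normalizer_iff]
    intro x
    constructor
    · rintro ⟨v, hv, rfl⟩
      refine ⟨c4 * v * c4⁻¹, ?_, by simp only [_root_.map_mul, _root_.map_inv]⟩
      have hv' : v * v = 1 := hv
      change c4 * v * c4⁻¹ * (c4 * v * c4⁻¹) = 1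
      calc c4 * v * c4⁻¹ * (c4 * v * c4⁻¹) = c4 * (v * v) * c4⁻¹ := by group
        _ = 1 := by rw [hv', mul_one, mul_inv_cancel]
    · rintro ⟨v, hv, hvx⟩
      refine ⟨c4⁻¹ * v * c4, ?_, ?_⟩
      · have hv' : v * v = 1 := hv
        change c4⁻¹ * v * c4 * (c4⁻¹ * v * c4) = 1
        calc c4⁻¹ * v * c4 * (c4⁻¹ * v * c4) = c4⁻¹ * (v * v) * c4 := by group
          _ = 1 := by rw [hv', mul_one, inv_mul_cancel]
      · rw [map_mul, map_mul, map_inv, hvx]
        group
  · rw [orderOf_injective φ hφ, c4_ord]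
  · rw [eq_bot_iff]
    rintro x ⟨⟨v, hv, rfl⟩, hx2⟩
    have hx3 : φ v ∈ centralizer {φ c4} := hx2
    rw [mem_centralizer_singleton_iff] at hx3
    rw [← map_mul, ← map_mul] at hx3
    rw [mem_bot, c4_fix v hv (hφ hx3), map_one]

end Cfsg.Agent.H389.RSq

private theorem dce_31ea31fb4abb : _root_.True := by
  try have : _root_.True := by simp only [_root_.Cfsg.Agent.H389.RSq.PB.up.eq_1]
  try have : _root_.True := by simp only [_root_.Cfsg.Agent.H389.RSq.PB.dg.eq_1]
  try have : _root_.True := by simp only [_root_.Cfsg.Agent.H389.RSq.PB.dgHom.eq_1]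
  exact _root_.True.intro
end

-- part: H333/S3530/Cyc
section
set_option linter.all false
open scoped Cfsg.Agent.FastGrp

/-!
# S3530: auxiliary lemmas on cyclic Sylow subgroups and solvable preimages (helper333)
-/

set_option autoImplicit false
set_option linter.unusedSectionVars false

namespace Cfsg.Agent.H333.S3530

open Subgroup
open Cfsg.Agent.H389.JSq (Has)
open Cfsg.Agent.H389.RSq
open Cfsg.Agent.H381.Tools
open Cfsg.Agent.OddOrderLocal.HallPi

universe u

/-- the elements of prime order of a cyclic group -/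
theorem mem_zpowers_of_cyclic {G : Type*} [Group G] [Finite G] [IsCyclic G] {p : ℕ} (hp : p.Prime) {x y : G}
    (hx : orderOf x = p) (hy : orderOf y = p) : y ∈ zpowers x := by
  classical
  have : Fintype G := Fintype.ofFinite G
  have h1 : (Finset.univ.filter fun a : G => a ^ p = 1).card ≤ p := IsCyclic.card_pow_eq_one_le hp.pos
  have h2 : (zpowers x : Set G).toFinset ⊆ Finset.univ.filter fun a : G => a ^ p = 1 := by
    intro a ha
    rw [Set.mem_toFinset, SetLike.mem_coe] at ha
    obtain ⟨k, rfl⟩ := mem_zpowers_iff.mp ha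
    rw [Finset.mem_filter]
    refine ⟨Finset.mem_univ _, ?_⟩
    rw [← zpow_natCast, zpow_comm, zpow_natCast, ← hx, pow_orderOf_eq_one, one_zpow]
  have h3 : (zpowers x : Set G).toFinset.card = p := by
    rw [Set.toFinset_card, ← Nat.card_eq_fintype_card]
    exact (Nat.card_zpowers x).trans hx
  have h4 := Finset.eq_of_subset_of_card_le h2 (by rw [h3]; exact h1)
  have h5 : y ∈ Finset.univ.filter fun a : G => a ^ p = 1 := by
    rw [Finset.mem_filter]
    exact ⟨Finset.mem_univ _, by rw [← hy]; exact pow_orderOf_eq_one y⟩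
  rw [← h4, Set.mem_toFinset] at h5
  exact h5

/-- subgroups of order `p` are conjugate if all `p`-subgroups are cyclic -/
theorem exists_conj_zpowers {X : Type*} [Group X] [Finite X] {p : ℕ} (hp : p.Prime)
    (hc : ∀ T : Subgroup X, IsPGroup p T → IsCyclic T) {x y : X} (hx : orderOf x = p) (hy : orderOf y = p) :
    ∃ g : X, g * x * g⁻¹ ∈ zpowers y := by
  have : Fact p.Prime := ⟨hp⟩
  obtain ⟨S, hS⟩ := (isPGroup_zpowers hp hx).exists_le_sylow
  obtain ⟨S', hS'⟩ := (isPGroup_zpowers hp hy).exists_le_sylow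
  obtain ⟨g, hg⟩ := MulAction.exists_smul_eq X S S'
  have hxS : g * x * g⁻¹ ∈ (S' : Subgroup X) := by
    rw [← hg]
    exact ⟨x, hS (mem_zpowers x), rfl⟩
  have hyS : y ∈ (S' : Subgroup X) := hS' (mem_zpowers y)
  have hcyc : IsCyclic (S' : Subgroup X) := hc _ S'.isPGroup'
  have h1 : orderOf (⟨g * x * g⁻¹, hxS⟩ : (S' : Subgroup X)) = p := by
    rw [← Subgroup.orderOf_coe]
    exact ((MulAut.conj g).orderOf_eq x).trans hx
  have h2 : orderOf (⟨y, hyS⟩ : (S' : Subgroup X)) = p := by
    rw [← Subgroup.orderOf_coe]; exact hy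
  obtain ⟨k, hk⟩ := mem_zpowers_iff.mp (mem_zpowers_of_cyclic hp h2 h1)
  exact ⟨g, mem_zpowers_iff.mpr ⟨k, congrArg Subtype.val hk⟩⟩

/-- if all `σ j`-subgroups are cyclic, the centralizer of an element of order `σ j` is divisible by the other `σ i` -/
theorem dvd_cent {X : Type*} [Group X] [Finite X] {σ : Fin 5 → ℕ} (hp : ∀ i, (σ i).Prime) (k5 : K5 σ X) {j : Fin 5}
    (hc : ∀ T : Subgroup X, IsPGroup (σ j) T → IsCyclic T) {x : X} (hx : orderOf x = σ j) {i : Fin 5}
    (hij : i ≠ j) : σ i ∣ Nat.card (centralizer ({x} : Set X)) := by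
  obtain ⟨a, b, hab, ha, hb⟩ := has_pair (hp j) (hp i) (k5 j i hij.symm)
  obtain ⟨g, hg⟩ := exists_conj_zpowers (hp j) hc ha hx
  have h1 : orderOf (g * a * g⁻¹) = σ j := ((MulAut.conj g).orderOf_eq a).trans ha
  have h2 := zpowers_eq_of_mem hx h1 hg
  have h3 : Commute (g * a * g⁻¹) (g * b * g⁻¹) := by
    change g * a * g⁻¹ * (g * b * g⁻¹) = g * b * g⁻¹ * (g * a * g⁻¹)
    calc g * a * g⁻¹ * (g * b * g⁻¹) = g * (a * b) * g⁻¹ := by group
      _ = g * (b * a) * g⁻¹ := by rw [hab.eq]
      _ = _ := by group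
  obtain ⟨k, hk⟩ := mem_zpowers_iff.mp h2
  have h4 : Commute x (g * b * g⁻¹) := by
    rw [← hk]; exact h3.zpow_left k
  exact dvd_card_of_mem (mem_cent_iff.mpr h4) (((MulAut.conj g).orderOf_eq b).trans hb)

/-- a group with solvable kernel and solvable image -/
theorem isSolvable_of_map {X Y : Type*} [Group X] [Group Y] {f : X →* Y} {D : Subgroup X}
    (h1 : Group.IsSolvable (D ⊓ f.ker : Subgroup X)) (h2 : Group.IsSolvable (D.map f)) : Group.IsSolvable D := by
  refine Group.isSolvable_of_ker_le_range (Subgroup.inclusion (inf_le_left : D ⊓ f.ker ≤ D)) (f.subgroupMap D) ?_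
  rintro ⟨x, hx⟩ hk
  rw [MonoidHom.mem_ker] at hk
  exact ⟨⟨x, hx, congrArg Subtype.val hk⟩, rfl⟩

/-- a group with solvable intersection with `K` and solvable image modulo `K` -/
theorem isSolvable_of_inf {Y : Type*} [Group Y] {K D : Subgroup Y} [K.Normal]
    (h1 : Group.IsSolvable (D ⊓ K : Subgroup Y)) (h2 : Group.IsSolvable (Y ⧸ K)) : Group.IsSolvable D := by
  have h3 : Group.IsSolvable (D ⊓ (QuotientGroup.mk' K).ker : Subgroup Y) := by
    rw [QuotientGroup.ker_mk']; exact h1
  exact isSolvable_of_map h3 inferInstance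

/-- the order of a subgroup and its image -/
theorem card_eq_mul {X Y : Type*} [Group X] [Group Y] [Finite X] (f : X →* Y) (D : Subgroup X) :
    Nat.card D = Nat.card (D ⊓ f.ker : Subgroup X) * Nat.card (D.map f) := by
  have h1 : (f.comp D.subtype).range = D.map f := by
    ext y; constructor
    · rintro ⟨x, rfl⟩; exact ⟨x, x.2, rfl⟩
    · rintro ⟨x, hx, rfl⟩; exact ⟨⟨x, hx⟩, rfl⟩
  have h2 : (f.comp D.subtype).ker.map D.subtype = D ⊓ f.ker := by
    ext z
    constructor
    · rintro ⟨w, hw, rfl⟩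
      exact ⟨w.2, hw⟩
    · rintro ⟨hz, hzk⟩
      exact ⟨⟨z, hz⟩, hzk, rfl⟩
  have h3 := (f.comp D.subtype).ker.card_mul_index
  rw [index_ker, h1, Nat.card_congr ((f.comp D.subtype).ker.equivMapOfInjective _ D.subtype_injective).toEquiv,
    h2] at h3
  exact h3.symm

end Cfsg.Agent.H333.S3530
end
end

-- part: H333/S3530/Pt
section
set_option linter.all false
open scoped Cfsg.Agent.FastGrp

/-!
# S3530: the action of `PSL(2,u)` and its automorphisms on the Sylow subgroups of the characteristic (helper333)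
-/

set_option autoImplicit false
set_option linter.unusedSectionVars false

namespace Cfsg.Agent.H333.S3530

open Subgroup
open Cfsg.Agent.H389.JSq (Has)
open Cfsg.Agent.H389.RSq
open Cfsg.Agent.H381.Tools
open Cfsg.Agent.OddOrderLocal.HallPi
open Cfsg.Agent.ClassicalGeometry

universe u

section L

variable {s e : ℕ} {L : Type u} [Group L] [Finite L]

/-- the Sylow subgroups of the characteristic are TI -/
theorem sylow_ti (h : H389.RSq.IsPSL s e L) [Fact s.Prime] (P Q : Sylow s L) (x : L) (hx : x ≠ 1)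
    (hP : x ∈ (P : Subgroup L)) (hQ : x ∈ (Q : Subgroup L)) : P = Q := by
  obtain ⟨hs, F, _, _, hF, ⟨φ⟩⟩ := h
  have hc : CharP F s := by
    obtain ⟨p, hp⟩ := CharP.exists F
    obtain ⟨n, hp', hn⟩ := FiniteField.card F p
    have h1 : p ∣ s ^ e := by
      rw [← hF, hn]
      exact dvd_pow_self p n.2.ne'
    rwa [(Nat.prime_dvd_prime_iff_eq hp' hs).mp (hp'.dvd_of_dvd_pow h1)] at hp
  have hsurj : Function.Surjective φ.toMonoidHom := φ.surjective
  have h1 := PSL2ElemOrder.sylow_eq_of_mem s (P.mapSurjective hsurj) (Q.mapSurjective hsurj) (φ x)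
    (fun h0 => hx (φ.injective (by rw [h0, map_one]))) ⟨x, hP, rfl⟩ ⟨x, hQ, rfl⟩
  have h2 : (P : Subgroup L).map φ.toMonoidHom = (Q : Subgroup L).map φ.toMonoidHom := by
    have h3 := congrArg Sylow.toSubgroup h1
    rwa [Sylow.coe_mapSurjective, Sylow.coe_mapSurjective] at h3
  exact Sylow.ext (Subgroup.map_injective (f := φ.toMonoidHom) φ.injective h2)

/-- the order -/
theorem card_eq (h : H389.RSq.IsPSL s e L) : ∃ d, d * Nat.card L = s ^ e * (s ^ e - 1) * (s ^ e + 1) ∧ s.Coprime d ∧ 0 < d ∧ d ≤ 2 := by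
  by_cases hs : s = 2
  · exact ⟨1, by rw [one_mul, h.card_even hs], Nat.coprime_one_right _, by norm_num, by norm_num⟩
  · exact ⟨2, h.card_odd hs, (Nat.coprime_primes h.1 Nat.prime_two).mpr hs, by norm_num, le_rfl⟩

theorem dvd_u (h : H389.RSq.IsPSL s e L) (h4 : 4 ≤ s ^ e) : s ∣ s ^ e := by
  refine dvd_pow_self s ?_
  rintro rfl
  rw [pow_zero] at h4
  omega

theorem coprime_pm (h : H389.RSq.IsPSL s e L) (h4 : 4 ≤ s ^ e) : s.Coprime ((s ^ e - 1) * (s ^ e + 1)) := by
  have hs := h.1
  have h1 := dvd_u h h4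
  rw [Nat.Prime.coprime_iff_not_dvd hs]
  intro h2
  rcases hs.dvd_mul.mp h2 with h3 | h3
  · have h5 := Nat.dvd_sub h1 h3
    rw [Nat.sub_sub_self (by omega)] at h5
    exact hs.one_lt.ne' (Nat.dvd_one.mp h5)
  · have h5 := (Nat.dvd_add_right h1).mp h3
    exact hs.one_lt.ne' (Nat.dvd_one.mp h5)

theorem card_sylow_u (h : H389.RSq.IsPSL s e L) [Fact s.Prime] (h4 : 4 ≤ s ^ e) (P : Sylow s L) :
    Nat.card (P : Subgroup L) = s ^ e := by
  have hs := h.1
  obtain ⟨d, hd, hcd, -, -⟩ := card_eq h
  have h1 := coprime_pm h h4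
  have h2 := (P : Subgroup L).card_mul_index
  have h3 : ¬ s ∣ (P : Subgroup L).index := P.not_dvd_index
  obtain ⟨m, hm⟩ := IsPGroup.iff_card.1 P.2
  rw [← h2] at hd
  apply Nat.dvd_antisymm
  · have h5 : Nat.card (P : Subgroup L) ∣ s ^ e * ((s ^ e - 1) * (s ^ e + 1)) := by
      rw [← mul_assoc, ← hd]
      exact Dvd.intro _ (by ring : Nat.card (P : Subgroup L) * (d * (P : Subgroup L).index) = _)
    refine Nat.Coprime.dvd_of_dvd_mul_right ?_ h5
    rw [hm]
    exact h1.pow_left m
  · have h5 : s ^ e ∣ Nat.card (P : Subgroup L) * (d * (P : Subgroup L).index) := by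
      have : Nat.card (P : Subgroup L) * (d * (P : Subgroup L).index) = s ^ e * ((s ^ e - 1) * (s ^ e + 1)) := by
        rw [← mul_assoc (s ^ e), ← hd]; ring
      rw [this]
      exact Dvd.intro _ rfl
    refine Nat.Coprime.dvd_of_dvd_mul_right ?_ h5
    exact (hcd.mul_right ((Nat.Prime.coprime_iff_not_dvd hs).2 h3)).pow_left e

theorem psl_simple (h : H389.RSq.IsPSL s e L) (h4 : 4 ≤ s ^ e) : IsSimpleGroup L := by
  obtain ⟨-, F, i1, i2, hF, ⟨φ⟩⟩ := h
  have h1 : IsSimpleGroup (Matrix.ProjectiveSpecialLinearGroup (Fin 2) F) :=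
    Matrix.ProjectiveSpecialLinearGroup.rank_two_simple (by rw [Nat.card_eq_fintype_card, hF]; exact h4)
  exact φ.isSimpleGroup

/-- the number of Sylow subgroups -/
theorem number_sylow (h : H389.RSq.IsPSL s e L) [Fact s.Prime] (h4 : 4 ≤ s ^ e) : Nat.card (Sylow s L) = s ^ e + 1 := by
  have hs := psl_simple h h4
  obtain ⟨d, hd, -, hd0, hd2⟩ := card_eq h
  obtain ⟨P⟩ : Nonempty (Sylow s L) := inferInstance
  obtain ⟨k, hk⟩ := H299.PslCount.card_sylow_mod (fun P Q x => sylow_ti h P Q x) P
  have hP := card_sylow_u h h4 P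
  rw [hP] at hk
  have h5 := (normalizer ((P : Subgroup L) : Set L)).card_mul_index
  have h6 : Nat.card (Sylow s L) = (normalizer ((P : Subgroup L) : Set L)).index := P.card_eq_index_normalizer
  have h7 : Nat.card (P : Subgroup L) ∣ Nat.card (normalizer ((P : Subgroup L) : Set L)) :=
    Subgroup.card_dvd_of_le le_normalizer
  rw [hP] at h7
  obtain ⟨m, hm⟩ := h7
  rw [hm, ← h6, hk] at h5
  generalize s ^ e = q at *
  obtain ⟨v, rfl⟩ : ∃ v, q = v + 1 := ⟨q - 1, by omega⟩
  rw [Nat.add_sub_cancel] at hd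
  have hk0 : k ≠ 0 := by
    rintro rfl
    rw [zero_mul, add_zero, h6, index_eq_one, normalizer_eq_top_iff] at hk
    rcases hk.eq_bot_or_eq_top with h | h
    · rw [h, Subgroup.card_bot] at hP
      omega
    · rw [h, Subgroup.card_top] at hP
      rw [hP] at hd
      have h8 : d = v * (v + 1 + 1) := by
        have : (v + 1) * d = (v + 1) * (v * (v + 1 + 1)) := by rw [mul_comm (v + 1) d, hd]; ring
        exact Nat.eq_of_mul_eq_mul_left (by omega) this
      nlinarith only [hd2, h4, h8]
  have h8 : (d * m) * (1 + k * (v + 1)) = v * (v + 1 + 1) := by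
    have : (v + 1) * ((d * m) * (1 + k * (v + 1))) = (v + 1) * (v * (v + 1 + 1)) := by
      rw [← mul_assoc (v + 1) v, ← hd, ← h5]; ring
    exact Nat.eq_of_mul_eq_mul_left (by omega) this
  have h9 : (v + 1) ∣ d * m + 1 := by
    have h10 : (d * m + 1) + (v + 1) * (d * m * k) = (v + 1) * (v + 1) := by
      have : (v + 1) * (v + 1) = v * (v + 1 + 1) + 1 := by ring
      rw [this, ← h8]; ring
    exact (Nat.dvd_add_left (Dvd.intro _ rfl)).1 (h10 ▸ Dvd.intro _ rfl)
  have h11 : v + 1 ≤ d * m + 1 := Nat.le_of_dvd (by omega) h9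
  have h12 : k = 1 := by
    by_contra hk1
    have hk2 : 2 ≤ k := by omega
    have h13 : v * (1 + 2 * (v + 1)) ≤ (d * m) * (1 + k * (v + 1)) := by
      apply Nat.mul_le_mul (by omega)
      have := Nat.mul_le_mul_right (v + 1) hk2
      omega
    nlinarith only [h4, h8, h13]
  rw [hk, h12]
  ring

theorem isSolvable_normalizer_sylow (h : H389.RSq.IsPSL s e L) [Fact s.Prime] (P : Sylow s L) :
    Group.IsSolvable (normalizer ((P : Subgroup L) : Set L)) := by
  obtain ⟨hs, F, _, _, hF, ⟨φ⟩⟩ := h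
  have hc : CharP F s := by
    obtain ⟨p, hp⟩ := CharP.exists F
    obtain ⟨n, hp', hn⟩ := FiniteField.card F p
    have h1 : p ∣ s ^ e := by
      rw [← hF, hn]
      exact dvd_pow_self p n.2.ne'
    rwa [(Nat.prime_dvd_prime_iff_eq hp' hs).mp (hp'.dvd_of_dvd_pow h1)] at hp
  have hsurj : Function.Surjective φ.toMonoidHom := φ.surjective
  have h1 := PSL2Solvable.isSolvable_of_le_normalizer s (P.mapSurjective hsurj)
    ((normalizer ((P : Subgroup L) : Set L)).map φ.toMonoidHom) (by
      rintro _ ⟨x, hx, rfl⟩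
      refine mem_normalizer_fintype ?_
      rintro _ ⟨y, hy, rfl⟩
      refine ⟨x * y * x⁻¹, (mem_normalizer_iff.mp hx y).mp hy, ?_⟩
      simp only [_root_.MulEquiv.toMonoidHom_eq_coe, _root_.MonoidHom.coe_coe, _root_.map_mul, _root_.map_inv])
  exact Group.isSolvable_of_isSolvable_injective
    (f := ((normalizer ((P : Subgroup L) : Set L)).equivMapOfInjective φ.toMonoidHom φ.injective).toMonoidHom)
    (MulEquiv.injective _)

/-- a nontrivial element of prime order fixing three Sylow subgroups has order `s` -/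
theorem three_points (h : H389.RSq.IsPSL s e L) [Fact s.Prime] (h4 : 4 ≤ s ^ e) {z : L} {q : ℕ} (hq : q.Prime)
    (hz : orderOf z = q) (hqs : q ≠ s) {P₁ P₂ P₃ : Sylow s L} (h12 : P₁ ≠ P₂) (h13 : P₁ ≠ P₃)
    (h23 : P₂ ≠ P₃) (f1 : z • P₁ = P₁) (f2 : z • P₂ = P₂) (f3 : z • P₃ = P₃) : False := by
  classical
  have : Fintype (Sylow s L) := Fintype.ofFinite _
  have hs := h.1
  have hfix : ∀ g ∈ (P₁ : Subgroup L), g • P₁ = P₁ := fun g hg =>
    Sylow.smul_eq_iff_mem_normalizer.2 (le_normalizer hg)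
  have hfree : ∀ g ∈ (P₁ : Subgroup L), g • P₂ = P₂ → g = 1 := by
    intro g hg hgP
    by_contra hg1
    have h1 : g ∈ (P₂ : Subgroup L) :=
      H299.PslCount.mem_of_normalizer (P := P₁) hg (Sylow.smul_eq_iff_mem_normalizer.1 hgP)
    exact h12 (sylow_ti h P₁ P₂ g hg1 hg h1)
  let φ : ↥(P₁ : Subgroup L) → {Q : Sylow s L // Q ≠ P₁} := fun g => ⟨(g : L) • P₂, fun h0 => h12 (by
    have h1 : (g : L)⁻¹ • ((g : L) • P₂) = (g : L)⁻¹ • P₁ := by rw [h0]
    rw [inv_smul_smul, hfix _ (inv_mem g.2)] at h1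
    exact h1.symm)⟩
  have hinj : Function.Injective φ := by
    intro a b hab
    have h1 : (a : L) • P₂ = (b : L) • P₂ := congrArg Subtype.val hab
    have h2 : ((b : L)⁻¹ * a) • P₂ = P₂ := by rw [mul_smul, h1, inv_smul_smul]
    have h3 := hfree _ (mul_mem (inv_mem b.2) a.2) h2
    exact Subtype.ext (inv_mul_eq_one.mp h3).symm
  have hcard : Nat.card (P₁ : Subgroup L) = Nat.card {Q : Sylow s L // Q ≠ P₁} := by
    rw [card_sylow_u h h4, Nat.card_eq_fintype_card, Fintype.card_subtype_compl, Fintype.card_subtype_eq,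
      ← Nat.card_eq_fintype_card, number_sylow h h4, Nat.add_sub_cancel]
  have hbij : Function.Bijective φ := by
    have : Fintype (P₁ : Subgroup L) := Fintype.ofFinite _
    rw [Fintype.bijective_iff_injective_and_card]
    refine ⟨hinj, ?_⟩
    rw [← Nat.card_eq_fintype_card, ← Nat.card_eq_fintype_card, hcard]
  obtain ⟨x, hx⟩ := hbij.2 ⟨P₃, h13.symm⟩
  have hx' : (x : L) • P₂ = P₃ := congrArg Subtype.val hx
  have hzn : z * (x : L) * z⁻¹ ∈ (P₁ : Subgroup L) :=
    (mem_normalizer_iff.mp (Sylow.smul_eq_iff_mem_normalizer.1 f1) _).mp x.2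
  have h5 : φ ⟨z * (x : L) * z⁻¹, hzn⟩ = φ x := by
    apply Subtype.ext
    show (z * (x : L) * z⁻¹) • P₂ = (x : L) • P₂
    have h6 : z⁻¹ • P₂ = P₂ := by rw [inv_smul_eq_iff, f2]
    rw [mul_smul, mul_smul, h6, hx', f3]
  have h6 : z * (x : L) * z⁻¹ = x := congrArg Subtype.val (hinj h5)
  have hc : Commute z (x : L) := by
    rw [mul_inv_eq_iff_eq_mul] at h6
    exact h6
  obtain ⟨k, hk⟩ := (IsPGroup.iff_orderOf.mp P₁.2) x
  have hk0 : k ≠ 0 := by
    rintro rfl
    rw [pow_zero, orderOf_eq_one_iff] at hk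
    rw [hk, OneMemClass.coe_one, one_smul] at hx'
    exact h23 hx'
  have hxo : orderOf (x : L) = s ^ k := by rw [Subgroup.orderOf_coe]; exact hk
  have hcop : q.Coprime (s ^ k) := ((Nat.coprime_primes hq hs).mpr hqs).pow_right k
  have ho := Cfsg.Agent.H381.Tools.orderOf_mul hc hz hxo hcop
  have hqd : q ∣ orderOf (z * (x : L)) := by rw [ho]; exact Dvd.intro _ rfl
  have hsd : s ∣ orderOf (z * (x : L)) := by rw [ho]; exact (dvd_pow_self s hk0).mul_left _
  have h7 := coprime_pm h h4
  rcases h.orderOf_dvd (z * (x : L)) with h8 | h8 | h8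
  · exact hqs ((Nat.prime_dvd_prime_iff_eq hq hs).mp (hqd.trans h8))
  · exact (Nat.Prime.coprime_iff_not_dvd hs).mp h7 ((hsd.trans h8).mul_right _)
  · exact (Nat.Prime.coprime_iff_not_dvd hs).mp h7 ((hsd.trans h8).mul_left _)

/-- an element of odd prime order dividing `u - 1` fixes exactly two Sylow subgroups -/
theorem exists_two (h : H389.RSq.IsPSL s e L) [Fact s.Prime] (h4 : 4 ≤ s ^ e) {z : L} {q : ℕ} (hq : q.Prime)
    (hq2 : q ≠ 2) (hz : orderOf z = q) (hd : q ∣ s ^ e - 1) :
    ∃ P Q : Sylow s L, P ≠ Q ∧ z • P = P ∧ z • Q = Q ∧ ∀ R : Sylow s L, z • R = R → R = P ∨ R = Q := by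
  classical
  have : Fintype (Sylow s L) := Fintype.ofFinite _
  have hs := h.1
  have : Fact q.Prime := ⟨hq⟩
  have hqs : q ≠ s := by
    rintro rfl
    exact (Nat.Prime.coprime_iff_not_dvd hs).mp (coprime_pm h h4) (hd.mul_right _)
  have h1 := (isPGroup_zpowers hq hz).card_modEq_card_fixedPoints (Sylow s L)
  rw [number_sylow h h4] at h1
  have hfp : ∀ R : Sylow s L, R ∈ MulAction.fixedPoints (zpowers z) (Sylow s L) ↔ z • R = R := by
    intro R
    constructor
    · intro hR
      exact hR ⟨z, mem_zpowers z⟩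
    · rintro hR ⟨_, k, rfl⟩
      show (z ^ k) • R = R
      have h2 : z ∈ MulAction.stabilizer L R := MulAction.mem_stabilizer_iff.mpr hR
      exact MulAction.mem_stabilizer_iff.mp (zpow_mem h2 k)
  set S : Finset (Sylow s L) := Finset.univ.filter fun R => z • R = R with hS
  have hcS : Nat.card (MulAction.fixedPoints (zpowers z) (Sylow s L)) = S.card := by
    rw [hS, ← Fintype.card_subtype, ← Nat.card_eq_fintype_card]
    exact Nat.card_congr (Equiv.subtypeEquivRight hfp)
  rw [hcS] at h1
  have hle : S.card ≤ 2 := by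
    by_contra hlt
    push Not at hlt
    obtain ⟨A, B, C, hA, hB, hC, hAB, hAC, hBC⟩ := Finset.two_lt_card_iff.mp hlt
    rw [hS, Finset.mem_filter] at hA hB hC
    exact three_points h h4 hq hz hqs hAB hAC hBC hA.2 hB.2 hC.2
  have hq3 : 3 ≤ q := by
    have := hq.two_le
    omega
  have h2 : S.card = 2 := by
    have h3 : s ^ e + 1 ≡ 2 [MOD q] := by
      have h5 : s ^ e + 1 = (s ^ e - 1) + 2 := by omega
      rw [h5]
      exact (Nat.modEq_zero_iff_dvd.mpr hd).add_right 2
    have h5 := h1.symm.trans h3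
    have h6 := Nat.ModEq.eq_of_lt_of_lt h5 (by omega) (by omega)
    exact h6
  obtain ⟨P, Q, hPQ, hSe⟩ := Finset.card_eq_two.mp h2
  have hP : P ∈ S := by rw [hSe]; exact Finset.mem_insert_self _ _
  have hQ : Q ∈ S := by rw [hSe]; exact Finset.mem_insert_of_mem (Finset.mem_singleton_self _)
  refine ⟨P, Q, hPQ, (Finset.mem_filter.mp hP).2, (Finset.mem_filter.mp hQ).2, ?_⟩
  intro R hR
  have h3 : R ∈ S := Finset.mem_filter.mpr ⟨Finset.mem_univ _, hR⟩
  rw [hSe, Finset.mem_insert, Finset.mem_singleton] at h3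
  exact h3

end L

end Cfsg.Agent.H333.S3530
end
end
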